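import Mathlib
import Cfsg.Prelude.Def_Characters
import Cfsg.Prelude.Def_Solvable
import Cfsg.Agent.Lib.Helper3.CharRegular
import Cfsg.Agent.Lib.Helper3.CharKernel
import Cfsg.Agent.Lib.Helper3.IndFun
import Cfsg.Agent.Lib.Helper75.CharInd
import Cfsg.Agent.Lib.Helper81.CharCore
import Cfsg.Agent.Lib.Helper71.Frob

/-!
Frobenius' theorem on Frobenius kernels, via induced class functions.
-/

set_option autoImplicit false

namespace Cfsg.Agent.Lib.Lead

open scoped ComplexConjugate

universe u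

variable {G : Type u} [Group G]

/-- A class function with integer multiplicities, norm one and positive degree is an
irreducible character. -/
theorem isIrrCharacter_of_int [Fintype G] [Fintype (Cfsg.IrrCharacter G)] {f : G → ℂ}
    (hf : Cfsg.IsClassFunction G f)
    (hint : ∀ ψ : Cfsg.IrrCharacter G, ∃ m : ℤ, Cfsg.classInner f (ψ : G → ℂ) = m)
    (h1 : Cfsg.classInner f f = 1) (hpos : 0 < (f 1).re) : Cfsg.IsIrrCharacter G f := by
  classical
  choose m hm using hint
  have hsum : f = ∑ ψ : Cfsg.IrrCharacter G, (m ψ : ℂ) • (ψ : G → ℂ) := by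
    conv_lhs => rw [Helper3.classFunction_expansion' hf]
    exact Finset.sum_congr rfl (fun ψ _ => by rw [hm ψ])
  have h2 : Cfsg.classInner f f = ∑ ψ : Cfsg.IrrCharacter G, ((m ψ : ℂ)) * (m ψ : ℂ) := by
    conv_lhs => rw [hsum]
    rw [Helper75.classInner_sum_left]
    refine Finset.sum_congr rfl (fun ψ _ => ?_)
    rw [Helper75.classInner_smul_left, ← hsum, Helper75.classInner_conj_symm, hm ψ]
    simp
  rw [h1] at h2
  have h3 : (1 : ℤ) = ∑ ψ : Cfsg.IrrCharacter G, m ψ * m ψ := by
    have : ((1 : ℤ) : ℂ) = ((∑ ψ : Cfsg.IrrCharacter G, m ψ * m ψ : ℤ) : ℂ) := by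
      push_cast
      exact h2
    exact_mod_cast this
  have hex : ∃ ψ₀ : Cfsg.IrrCharacter G, m ψ₀ ≠ 0 := by
    by_contra hcon
    push Not at hcon
    simp [hcon] at h3
  obtain ⟨ψ₀, hψ₀⟩ := hex
  have hnn : ∀ ψ : Cfsg.IrrCharacter G, 0 ≤ m ψ * m ψ := fun ψ => mul_self_nonneg _
  have hle : ∀ ψ : Cfsg.IrrCharacter G, m ψ * m ψ ≤ 1 := by
    intro ψ
    rw [h3]
    exact Finset.single_le_sum (f := fun ψ => m ψ * m ψ) (fun ψ _ => hnn ψ) (Finset.mem_univ ψ)
  have hm0 : m ψ₀ = 1 ∨ m ψ₀ = -1 := by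
    have := hle ψ₀
    have h4 : m ψ₀ ≤ 1 := by nlinarith
    have h5 : -1 ≤ m ψ₀ := by nlinarith
    omega
  have h7 : m ψ₀ * m ψ₀ = 1 := by rcases hm0 with h | h <;> rw [h] <;> norm_num
  have hother : ∀ ψ : Cfsg.IrrCharacter G, ψ ≠ ψ₀ → m ψ = 0 := by
    intro ψ hne
    by_contra hcon
    have h4 : m ψ₀ * m ψ₀ + m ψ * m ψ ≤ ∑ ψ : Cfsg.IrrCharacter G, m ψ * m ψ := by
      have := Finset.add_sum_erase Finset.univ (fun ψ => m ψ * m ψ) (Finset.mem_univ ψ₀)
      rw [← this]
      have h8 : m ψ * m ψ ≤ ∑ x ∈ Finset.univ.erase ψ₀, m x * m x :=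
        Finset.single_le_sum (f := fun ψ => m ψ * m ψ) (fun ψ _ => hnn ψ)
          (Finset.mem_erase.2 ⟨hne, Finset.mem_univ ψ⟩)
      linarith
    rw [← h3] at h4
    have h6 : 0 < m ψ * m ψ := mul_self_pos.mpr hcon
    linarith
  have hχ' : f = (m ψ₀ : ℂ) • (ψ₀ : G → ℂ) := by
    conv_lhs => rw [hsum]
    rw [Finset.sum_eq_single ψ₀]
    · intro ψ _ hne
      rw [hother ψ hne]; simp
    · intro h; exact absurd (Finset.mem_univ ψ₀) h
  obtain ⟨n, hn, hn1⟩ := Helper81.irr_one_eq ψ₀
  rcases hm0 with h | h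
  · have : f = (ψ₀ : G → ℂ) := by rw [hχ', h]; simp
    rw [this]; exact ψ₀.2
  · exfalso
    have : f 1 = -(n : ℂ) := by rw [hχ', h]; simp [hn1]
    rw [this] at hpos
    simp at hpos
    have : (0 : ℝ) < n := by exact_mod_cast hn
    linarith

section frob

variable [Fintype G] (H : Subgroup G)

/-- Induction from a malnormal subgroup: the induced function agrees with the original class
function on the non-identity elements of the subgroup. -/
theorem indFun_apply_of_mal (hM : ∀ g : G, g ∉ H → ∀ k ∈ H, g⁻¹ * k * g ∈ H → k = 1)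
    (φ : H → ℂ) (hφ : Cfsg.IsClassFunction H φ) (h : H) (h1 : h ≠ 1) :
    Cfsg.indFun H φ (h : G) = φ h := by
  classical
  unfold Cfsg.indFun
  have hterm : ∀ x : G, Cfsg.extendByZero H φ (x⁻¹ * (h : G) * x) =
      if x ∈ H then φ h else 0 := by
    intro x
    split_ifs with hx
    · have hmem : x⁻¹ * (h : G) * x ∈ H := H.mul_mem (H.mul_mem (H.inv_mem hx) h.2) hx
      rw [Helper3.extendByZero_of_mem _ φ hmem]
      have h2 := hφ h (⟨x, hx⟩⁻¹ : H)
      rw [inv_inv] at h2
      rw [← h2]
      rfl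
    · apply Helper3.extendByZero_of_not_mem
      intro hmem
      exact h1 (Subtype.ext (hM x hx (h : G) h.2 hmem))
  simp_rw [hterm]
  rw [← Finset.sum_filter, Finset.sum_const, nsmul_eq_mul]
  have hcard : ((Finset.univ.filter (fun x : G => x ∈ H)).card : ℂ) = (Nat.card H : ℂ) := by
    congr 1
    rw [Nat.card_eq_fintype_card, Fintype.card_subtype]
  rw [hcard, ← mul_assoc, inv_mul_cancel₀, one_mul]
  exact_mod_cast Nat.card_pos.ne'

/-- The induced function vanishes at elements lying in no conjugate of the subgroup. -/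
theorem indFun_apply_of_not_conj (φ : H → ℂ) (x : G) (hx : ∀ g : G, g⁻¹ * x * g ∉ H) :
    Cfsg.indFun H φ x = 0 := by
  unfold Cfsg.indFun
  rw [Finset.sum_eq_zero, mul_zero]
  intro g _
  exact Helper3.extendByZero_of_not_mem _ φ (hx g)

/-- The Frobenius extension of a class function `θ` of `H` to `G`. -/
noncomputable def frobStar (θ : H → ℂ) : G → ℂ :=
  fun g => Cfsg.indFun H (fun h => θ h - θ 1) g + θ 1

theorem frobStar_coe (hM : ∀ g : G, g ∉ H → ∀ k ∈ H, g⁻¹ * k * g ∈ H → k = 1)
    {θ : H → ℂ} (hθ : Cfsg.IsClassFunction H θ) (h : H) : frobStar H θ (h : G) = θ h := by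
  unfold frobStar
  by_cases h1 : h = 1
  · subst h1
    rw [Subgroup.coe_one, Helper75.indFun_one]
    simp
  · rw [indFun_apply_of_mal H hM _ ?_ h h1]
    · ring
    · intro a b
      show θ (b * a * b⁻¹) - θ 1 = θ a - θ 1
      rw [hθ a b]

theorem frobStar_of_not_conj (θ : H → ℂ) (x : G) (hx : ∀ g : G, g⁻¹ * x * g ∉ H) :
    frobStar H θ x = θ 1 := by
  unfold frobStar
  rw [indFun_apply_of_not_conj H _ x hx, zero_add]

theorem isClassFunction_frobStar (θ : H → ℂ) : Cfsg.IsClassFunction G (frobStar H θ) := by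
  intro g h
  unfold frobStar
  rw [Helper3.isClassFunction_indFun H _ g h]

theorem classInner_frobStar [Fintype H] (θ : H → ℂ) {χ : G → ℂ}
    (hχ : Cfsg.IsClassFunction G χ) :
    Cfsg.classInner (frobStar H θ) χ =
      Cfsg.classInner θ (fun h : H => χ h)
        - θ 1 * Cfsg.classInner (fun _ : H => (1 : ℂ)) (fun h : H => χ h)
        + θ 1 * Cfsg.classInner (fun _ : G => (1 : ℂ)) χ := by
  have e1 : frobStar H θ =
      Cfsg.indFun H (fun h => θ h - θ 1) + θ 1 • (fun _ : G => (1 : ℂ)) := by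
    funext g; simp [frobStar]
  have e2 : (fun h : H => θ h - θ 1) = θ + (-θ 1) • (fun _ : H => (1 : ℂ)) := by
    funext h; simp [sub_eq_add_neg]
  rw [e1, Helper75.classInner_add_left, Helper75.classInner_smul_left,
    Helper3.frobenius_reciprocity H _ χ hχ, e2, Helper75.classInner_add_left,
    Helper75.classInner_smul_left]
  ring

theorem isIrrCharacter_frobStar [Fintype H]
    (hM : ∀ g : G, g ∉ H → ∀ k ∈ H, g⁻¹ * k * g ∈ H → k = 1)
    (θ : Cfsg.IrrCharacter H) (hne : (θ : H → ℂ) ≠ fun _ => 1) :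
    Cfsg.IsIrrCharacter G (frobStar H (θ : H → ℂ)) := by
  classical
  have : Fintype (Cfsg.IrrCharacter G) := Fintype.ofFinite _
  have hθ := θ.2
  have hθc : Cfsg.IsCharacter H (θ : H → ℂ) := Helper3.isCharacter_of_irr hθ
  have hθcf : Cfsg.IsClassFunction H (θ : H → ℂ) := Helper3.isClassFunction_of_isCharacter hθc
  obtain ⟨n, hn, hn1⟩ := Helper81.irr_one_eq θ
  have i1H : Cfsg.IsIrrCharacter H (fun _ => (1 : ℂ)) := Helper81.isIrrCharacter_one
  have i1G : Cfsg.IsIrrCharacter G (fun _ => (1 : ℂ)) := Helper81.isIrrCharacter_one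
  have c1G : Cfsg.IsClassFunction G (fun _ => (1 : ℂ)) := fun _ _ => rfl
  have hres : (fun h : H => frobStar H (θ : H → ℂ) (h : G)) = (θ : H → ℂ) :=
    funext (frobStar_coe H hM hθcf)
  apply isIrrCharacter_of_int (isClassFunction_frobStar H _)
  · intro ψ
    have hψc : Cfsg.IsCharacter G (ψ : G → ℂ) := Helper3.isCharacter_of_irr ψ.2
    rw [classInner_frobStar H _ (Helper3.isClassFunction_of_isCharacter hψc)]
    obtain ⟨a, ha⟩ := Helper75.classInner_char_nat hθc (Helper75.isCharacter_res H hψc)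
    obtain ⟨b, hb⟩ := Helper75.classInner_char_nat (Helper3.isCharacter_of_irr i1H)
      (Helper75.isCharacter_res H hψc)
    obtain ⟨c, hc⟩ := Helper75.classInner_char_nat (Helper3.isCharacter_of_irr i1G) hψc
    refine ⟨(a : ℤ) - n * b + n * c, ?_⟩
    rw [ha, hb, hc, hn1]
    push_cast
    ring
  · rw [classInner_frobStar H _ (isClassFunction_frobStar H _), hres,
      Helper3.classInner_irr_self hθ, Helper3.classInner_irr_ne i1H hθ (fun h => hne h.symm)]
    have h0 : Cfsg.classInner (fun _ : G => (1 : ℂ)) (frobStar H (θ : H → ℂ)) = 0 := by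
      rw [Helper75.classInner_conj_symm, classInner_frobStar H _ c1G,
        Helper3.classInner_irr_ne hθ i1H hne, Helper3.classInner_irr_self i1H,
        Helper3.classInner_irr_self i1G]
      simp
    rw [h0]
    simp
  · have h1 := frobStar_coe H hM hθcf (1 : H)
    rw [Subgroup.coe_one] at h1
    rw [h1, hn1]
    simp only [Complex.natCast_re]
    exact_mod_cast hn

end frob

/-- **Frobenius' theorem**: the Frobenius kernel is a normal subgroup complementing `H`. -/
theorem frobenius_kernel_subgroup [Finite G] (H : Subgroup G)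
    (hH : Cfsg.IsFrobeniusComplement H) :
    ∃ N : Subgroup G, (N : Set G) = Cfsg.frobeniusKernel H ∧ N.Normal ∧
      Subgroup.IsComplement' N H := by
  classical
  have : Fintype G := Fintype.ofFinite G
  have : Fintype H := Fintype.ofFinite H
  have : Fintype (Cfsg.IrrCharacter H) := Fintype.ofFinite _
  obtain ⟨hbot, htop, hM⟩ := (Helper71.isFrobeniusComplement_iff H).mp hH
  have hirr : ∀ t : {θ : Cfsg.IrrCharacter H // (θ : H → ℂ) ≠ fun _ => 1},
      Cfsg.IsIrrCharacter G (frobStar H (t.1 : H → ℂ)) :=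
    fun t => isIrrCharacter_frobStar H hM t.1 t.2
  choose n ρ hρirr hρchar using hirr
  let N : Subgroup G := ⨅ t, MonoidHom.ker (ρ t)
  have hNn : N.Normal := Subgroup.normal_iInf_normal (fun t => inferInstance)
  have hθcf : ∀ θ : Cfsg.IrrCharacter H, Cfsg.IsClassFunction H (θ : H → ℂ) := fun θ =>
    Helper3.isClassFunction_of_isCharacter (Helper3.isCharacter_of_irr θ.2)
  have hone : ∀ θ : Cfsg.IrrCharacter H, frobStar H (θ : H → ℂ) 1 = (θ : H → ℂ) 1 := by
    intro θ
    have h1 := frobStar_coe H hM (hθcf θ) (1 : H)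
    rwa [Subgroup.coe_one] at h1
  have key : ∀ (g : G), g ∈ N ↔ ∀ t : {θ : Cfsg.IrrCharacter H // (θ : H → ℂ) ≠ fun _ => 1},
      frobStar H (t.1 : H → ℂ) g = (t.1 : H → ℂ) 1 := by
    intro g
    rw [Subgroup.mem_iInf]
    refine forall_congr' (fun t => ?_)
    rw [MonoidHom.mem_ker]
    have h1 := Helper3.character_eq_finrank_iff (ρ t) g
    have h2 : (Module.finrank ℂ (Fin (n t) → ℂ) : ℂ) = (t.1 : H → ℂ) 1 := by
      rw [← Representation.char_one (ρ t), hρchar t, hone]
    rw [hρchar t, h2] at h1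
    rw [h1]
    rfl
  -- elements of `N ∩ H` are trivial
  have hNH : ∀ x : G, x ∈ N → x ∈ H → x = 1 := by
    intro x hxN hxH
    have hall : ∀ θ : Cfsg.IrrCharacter H, (θ : H → ℂ) ⟨x, hxH⟩ = (θ : H → ℂ) 1 := by
      intro θ
      by_cases hne : (θ : H → ℂ) = fun _ => 1
      · rw [hne]
      · have h1 := (key x).mp hxN ⟨θ, hne⟩
        have h2 := frobStar_coe H hM (hθcf θ) ⟨x, hxH⟩
        rw [← h2]
        exact h1
    have hreg := Helper3.regular_expansion (G := H) ⟨x, hxH⟩
    have hsq := Helper3.sum_degree_sq (G := H)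
    by_contra hx1
    have hx1' : (⟨x, hxH⟩ : H) ≠ 1 := fun h => hx1 (congrArg Subtype.val h)
    rw [if_neg hx1'] at hreg
    have h3 : ∑ χ : Cfsg.IrrCharacter H, (χ : H → ℂ) 1 * (χ : H → ℂ) ⟨x, hxH⟩ =
        ∑ χ : Cfsg.IrrCharacter H, (χ : H → ℂ) 1 ^ 2 :=
      Finset.sum_congr rfl (fun χ _ => by rw [hall χ]; ring)
    rw [h3, hsq] at hreg
    have : (Nat.card H : ℂ) ≠ 0 := by exact_mod_cast Nat.card_pos.ne'
    exact this hreg.symm
  have hset : (N : Set G) = Cfsg.frobeniusKernel H := by
    ext x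
    simp only [SetLike.mem_coe]
    unfold Cfsg.frobeniusKernel
    simp only [Set.mem_ofPred_eq]
    constructor
    · intro hxN
      by_cases hx1 : x = 1
      · exact Or.inl hx1
      · right
        intro g hg
        rw [Helper71.mem_conj_smul_iff] at hg
        have hc : g⁻¹ * x * g ∈ N := by
          have := hNn.conj_mem x hxN g⁻¹
          simpa using this
        have h1 := hNH _ hc hg
        apply hx1
        have : x = g * (g⁻¹ * x * g) * g⁻¹ := by group
        rw [this, h1]; group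
    · rintro (rfl | hx)
      · exact N.one_mem
      · rw [key]
        intro t
        apply frobStar_of_not_conj
        intro g hg
        exact hx g ((Helper71.mem_conj_smul_iff H g x).mpr hg)
  refine ⟨N, hset, hNn, ?_⟩
  have hdisj : Disjoint N H := by
    rw [Subgroup.disjoint_def]
    intro x hxN hxH
    exact hNH x hxN hxH
  apply Subgroup.isComplement'_of_card_mul_and_disjoint _ hdisj
  -- counting via the permutation character
  have c1H : Cfsg.IsClassFunction H (fun _ => (1 : ℂ)) := fun _ _ => rfl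
  have hval : ∀ g : G, Cfsg.indFun H (fun _ => (1 : ℂ)) g =
      (if g = 1 then (H.index : ℂ) else 0) + (if g ∈ N then 0 else 1) := by
    intro g
    by_cases hg1 : g = 1
    · subst hg1
      rw [Helper75.indFun_one, if_pos rfl, if_pos N.one_mem]
      simp
    · rw [if_neg hg1]
      by_cases hgN : g ∈ N
      · rw [if_pos hgN]
        have hk : g ∈ Cfsg.frobeniusKernel H := by rw [← hset]; exact hgN
        rcases hk with hk | hk
        · exact absurd hk hg1
        · rw [indFun_apply_of_not_conj H _ g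
            (fun c hc => hk c ((Helper71.mem_conj_smul_iff H c g).mpr hc))]
          simp
      · rw [if_neg hgN]
        have hk : g ∉ Cfsg.frobeniusKernel H := by rw [← hset]; exact hgN
        unfold Cfsg.frobeniusKernel at hk
        simp only [Set.mem_ofPred_eq, not_or, not_forall, not_not] at hk
        obtain ⟨-, c, hc⟩ := hk
        rw [Helper71.mem_conj_smul_iff] at hc
        have h1 : (⟨c⁻¹ * g * c, hc⟩ : H) ≠ 1 := by
          intro h
          have h2 : c⁻¹ * g * c = 1 := congrArg Subtype.val h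
          apply hg1
          have : g = c * (c⁻¹ * g * c) * c⁻¹ := by group
          rw [this, h2]; group
        have h3 := indFun_apply_of_mal H hM (fun _ => (1 : ℂ)) c1H ⟨c⁻¹ * g * c, hc⟩ h1
        have h4 := Helper3.isClassFunction_indFun H (fun _ => (1 : ℂ)) (c⁻¹ * g * c) c
        have h5 : c * (c⁻¹ * g * c) * c⁻¹ = g := by group
        rw [h5] at h4
        rw [h4]
        simp only [zero_add]
        exact h3
  have hsum : ∑ g : G, Cfsg.indFun H (fun _ => (1 : ℂ)) g = (Nat.card G : ℂ) := by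
    have h1 := Helper3.frobenius_reciprocity H (fun _ => (1 : ℂ)) (fun _ => (1 : ℂ))
      (fun _ _ => rfl)
    have i1H : Cfsg.IsIrrCharacter H (fun _ => (1 : ℂ)) := Helper81.isIrrCharacter_one
    rw [Helper3.classInner_irr_self i1H] at h1
    unfold Cfsg.classInner at h1
    simp only [map_one, mul_one] at h1
    have hG : (Nat.card G : ℂ) ≠ 0 := by exact_mod_cast Nat.card_pos.ne'
    field_simp at h1
    exact h1
  simp_rw [hval] at hsum
  rw [Finset.sum_add_distrib, Finset.sum_ite_eq' Finset.univ (1 : G), if_pos (Finset.mem_univ _)]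
    at hsum
  have h6 : ∑ g : G, (if g ∈ N then (0 : ℂ) else 1) = (Nat.card G : ℂ) - (Nat.card N : ℂ) := by
    have h7 : ∀ g : G, (if g ∈ N then (0 : ℂ) else 1) = 1 - (if g ∈ N then (1 : ℂ) else 0) := by
      intro g; split_ifs <;> simp
    simp_rw [h7]
    rw [Finset.sum_sub_distrib, Finset.sum_boole]
    simp only [Finset.sum_const, Finset.card_univ, nsmul_eq_mul, mul_one]
    rw [Nat.card_eq_fintype_card, Nat.card_eq_fintype_card, Fintype.card_subtype]
  rw [h6] at hsum
  have h8 : (H.index : ℂ) = (Nat.card N : ℂ) := by linear_combination hsum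
  have h9 : H.index = Nat.card N := by exact_mod_cast h8
  rw [← h9, mul_comm]
  exact H.card_mul_index

end Cfsg.Agent.Lib.Lead
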