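import Mathlib
import Cfsg.Prelude.Def_Local
import Cfsg.Prelude.Def_PLocal
import Cfsg.Agent.Lib.Helper11.ZJ
import Cfsg.Agent.Lib.Helper22.PConstr
import Cfsg.Agent.Lib.Helper22.PLocal
import Cfsg.Agent.Lib.Helper1.Commutator
import Cfsg.Agent.Lib.Helper34.CoreAux

/-!
Glauberman's ZJ-theorem in the `p`-constrained, `p`-stable vocabulary (lead):
`G = O_{p'}(G) N_G(Z(J(P)))`, on top of `Cfsg.Agent.Lib.Helper11.zj_generic`.
-/

set_option autoImplicit false

namespace Cfsg.Agent.Lib.Lead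

open Cfsg
open scoped commutatorElement

universe u

section Lift

variable {G : Type u} [Group G] [Finite G] {p : ℕ} [Fact p.Prime]

/-- A `p`-subgroup of a quotient is the image of a `p`-subgroup. -/
theorem exists_pGroup_map_eq (K : Subgroup G) [K.Normal] (V : Subgroup (G ⧸ K))
    (hV : IsPGroup p V) :
    ∃ P1 : Subgroup G, IsPGroup p P1 ∧ P1.map (QuotientGroup.mk' K) = V := by
  obtain ⟨L, hL⟩ : ∃ L : Subgroup G, L = V.comap (QuotientGroup.mk' K) := ⟨_, rfl⟩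
  obtain ⟨Q⟩ : Nonempty (Sylow p ↥L) := inferInstance
  obtain ⟨f, hf⟩ : ∃ f : ↥L →* G ⧸ K, f = (QuotientGroup.mk' K).comp L.subtype := ⟨_, rfl⟩
  have hrange : (⊤ : Subgroup ↥L).map f = V := by
    rw [hf, ← Subgroup.map_map, ← MonoidHom.range_eq_map, Subgroup.range_subtype, hL]
    exact Subgroup.map_comap_eq_self_of_surjective (QuotientGroup.mk'_surjective _) _
  refine ⟨(Q : Subgroup ↥L).map L.subtype, Q.isPGroup'.map _, ?_⟩
  have hmap : ((Q : Subgroup ↥L).map L.subtype).map (QuotientGroup.mk' K) =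
      (Q : Subgroup ↥L).map f := by
    rw [Subgroup.map_map, hf]
  rw [hmap]
  have hle : (Q : Subgroup ↥L).map f ≤ V := by rw [← hrange]; exact Subgroup.map_mono le_top
  apply le_antisymm hle
  rw [← Subgroup.relIndex_eq_one]
  have h1 : ((Q : Subgroup ↥L).map f).relIndex V ∣ (Q : Subgroup ↥L).index := by
    rw [← hrange, Subgroup.relIndex_map_map, top_sup_eq, Subgroup.relIndex_top_right]
    exact Subgroup.index_dvd_of_le le_sup_left
  have h2 : ¬ p ∣ (Q : Subgroup ↥L).index := Q.not_dvd_index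
  obtain ⟨n, hn⟩ := hV.index (((Q : Subgroup ↥L).map f).subgroupOf V)
  have hn' : ((Q : Subgroup ↥L).map f).relIndex V = p ^ n := hn
  rw [hn'] at h1 ⊢
  rcases Nat.eq_zero_or_pos n with rfl | hpos
  · rfl
  · exfalso; exact h2 (dvd_trans (dvd_pow_self p hpos.ne') h1)

/-- A `p`-subgroup meets a subgroup of order prime to `p` trivially. -/
theorem pGroup_inf_coprime_eq_bot {P1 K : Subgroup G} (hP : IsPGroup p P1)
    (hK : (Nat.card K).Coprime p) : P1 ⊓ K = ⊥ := by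
  obtain ⟨n, hn⟩ := IsPGroup.iff_card.mp hP
  apply (Subgroup.disjoint_of_coprime_natCard _).eq_bot
  rw [hn]
  exact Nat.Coprime.pow_left n hK.symm

/-- Modulo a normal `p'`-subgroup, the centralizer of the image of a `p`-subgroup is the image
of its centralizer. -/
theorem centralizer_map_mk_le (K : Subgroup G) [K.Normal] (hK : (Nat.card K).Coprime p)
    (P1 : Subgroup G) (hP : IsPGroup p P1) :
    Subgroup.centralizer ((P1.map (QuotientGroup.mk' K) : Subgroup (G ⧸ K)) : Set (G ⧸ K)) ≤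
      (Subgroup.centralizer (P1 : Set G)).map (QuotientGroup.mk' K) := by
  intro xb hxb
  have h1 : xb ∈ Subgroup.normalizer
      ((P1.map (QuotientGroup.mk' K) : Subgroup (G ⧸ K)) : Set (G ⧸ K)) :=
    Subgroup.centralizer_le_normalizer _ hxb
  rw [← Cfsg.Agent.Lib.Helper22.normalizer_map_mk_of_coprime K hK P1 hP] at h1
  obtain ⟨y, hy, rfl⟩ := h1
  have hy' : y ∈ Subgroup.normalizer (P1 : Set G) := hy
  refine ⟨y, ?_, rfl⟩
  rw [SetLike.mem_coe, Subgroup.mem_centralizer_iff]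
  intro g hg
  have h2 : y * g * y⁻¹ ∈ P1 := (Subgroup.mem_normalizer_iff.mp hy' g).mp hg
  have h3 : y * g * y⁻¹ * g⁻¹ ∈ K := by
    rw [← QuotientGroup.eq_one_iff]
    have h5 := (Subgroup.mem_centralizer_iff.mp hxb) (QuotientGroup.mk' K g) ⟨g, hg, rfl⟩
    have h6 : ((y * g * y⁻¹ * g⁻¹ : G) : G ⧸ K) =
        QuotientGroup.mk' K y * QuotientGroup.mk' K g * (QuotientGroup.mk' K y)⁻¹ *
          (QuotientGroup.mk' K g)⁻¹ := by
      simp
    rw [h6, ← h5]
    group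
  have h4 : y * g * y⁻¹ * g⁻¹ ∈ P1 ⊓ K := ⟨P1.mul_mem h2 (P1.inv_mem hg), h3⟩
  rw [pGroup_inf_coprime_eq_bot hP hK, Subgroup.mem_bot] at h4
  have h7 : y * g = (y * g * y⁻¹ * g⁻¹) * (g * y) := by group
  rw [h7, h4, one_mul]

end Lift

section Stable

variable {G : Type u} [Group G] [Finite G] {p : ℕ} [Fact p.Prime]

/-- `p`-constraint gives `C(O_p) ≤ O_p` in `G / O_{p'}(G)`. -/
theorem centralizer_pCore_quotient_le (hc : Cfsg.IsPConstrained p G) :
    Subgroup.centralizer (Cfsg.pCore p (G ⧸ Cfsg.pPrimeCore p G) : Set (G ⧸ Cfsg.pPrimeCore p G)) ≤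
      Cfsg.pCore p (G ⧸ Cfsg.pPrimeCore p G) := by
  obtain ⟨P0⟩ : Nonempty (Sylow p ↥(Cfsg.pPrimePCore p G)) := inferInstance
  have hmap := Cfsg.Agent.Lib.Helper22.sylow_pPrimePCore_map P0
  have hK : (Nat.card (Cfsg.pPrimeCore p G)).Coprime p :=
    Cfsg.Agent.Lib.Helper34.card_pPrimeCore_coprime p G
  have hP0 : IsPGroup p ((P0 : Subgroup ↥(Cfsg.pPrimePCore p G)).map
      (Cfsg.pPrimePCore p G).subtype) := P0.isPGroup'.map _
  intro xb hxb
  rw [← hmap] at hxb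
  obtain ⟨y, hy, rfl⟩ := centralizer_map_mk_le (Cfsg.pPrimeCore p G) hK _ hP0 hxb
  exact hc P0 hy

/-- `p`-stability (acting-subgroup form) of `G` gives `p`-stability of `G / O_{p'}(G)` on each of
its normal `p`-subgroups. -/
theorem isPStableOn_quotient (hs : Cfsg.IsPStable p G)
    (V : Subgroup (G ⧸ Cfsg.pPrimeCore p G)) [hVn : V.Normal] (hV : IsPGroup p V) :
    Cfsg.IsPStableOn p V := by
  intro ab hab
  have hKc : (Nat.card (Cfsg.pPrimeCore p G)).Coprime p :=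
    Cfsg.Agent.Lib.Helper34.card_pPrimeCore_coprime p G
  obtain ⟨P1, hP1, hP1V⟩ := exists_pGroup_map_eq (Cfsg.pPrimeCore p G) V hV
  have hP1K : P1 ⊓ Cfsg.pPrimeCore p G = ⊥ := pGroup_inf_coprime_eq_bot hP1 hKc
  have hNtop : (Subgroup.normalizer (P1 : Set G)).map (QuotientGroup.mk' (Cfsg.pPrimeCore p G)) = ⊤ := by
    rw [Cfsg.Agent.Lib.Helper22.normalizer_map_mk_of_coprime (Cfsg.pPrimeCore p G) hKc P1 hP1, hP1V]
    exact Subgroup.normalizer_eq_top_iff.mpr hVn
  obtain ⟨a, haN, rfl⟩ : ∃ a ∈ Subgroup.normalizer (P1 : Set G),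
      QuotientGroup.mk' (Cfsg.pPrimeCore p G) a = ab := by
    have : ab ∈ (Subgroup.normalizer (P1 : Set G)).map (QuotientGroup.mk' (Cfsg.pPrimeCore p G)) := by
      rw [hNtop]; trivial
    exact this
  have hza : Subgroup.zpowers a ≤ Subgroup.normalizer (P1 : Set G) := Subgroup.zpowers_le.mpr haN
  have hquad : ⁅⁅P1, Subgroup.zpowers a⁆, Subgroup.zpowers a⁆ = ⊥ := by
    have h0 : ⁅P1, Subgroup.zpowers a⁆ ≤ P1 :=
      Cfsg.Agent.Lib.Helper1.commutator_le_of_le_normalizer hza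
    have h1 : ⁅⁅P1, Subgroup.zpowers a⁆, Subgroup.zpowers a⁆ ≤ P1 :=
      (Subgroup.commutator_mono h0 le_rfl).trans h0
    have h2 : ⁅⁅P1, Subgroup.zpowers a⁆, Subgroup.zpowers a⁆ ≤ Cfsg.pPrimeCore p G := by
      have h3 : (⁅⁅P1, Subgroup.zpowers a⁆, Subgroup.zpowers a⁆).map
          (QuotientGroup.mk' (Cfsg.pPrimeCore p G)) = ⊥ := by
        rw [Subgroup.map_commutator, Subgroup.map_commutator, hP1V, MonoidHom.map_zpowers]
        exact hab
      rw [Subgroup.map_eq_bot_iff, QuotientGroup.ker_mk'] at h3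
      exact h3
    exact le_bot_iff.mp (hP1K ▸ le_inf h1 h2)
  -- split `a` into its `p`-part and `p'`-part
  obtain ⟨k, m, hm, hn⟩ := Nat.exists_eq_pow_mul_and_not_dvd (orderOf_pos a).ne' p
    (Fact.out : p.Prime).ne_one
  have hpm : p.Coprime m := (Nat.Prime.coprime_iff_not_dvd Fact.out).mpr hm
  obtain ⟨a1, ha1⟩ : ∃ a1 : G, a1 = a ^ m := ⟨_, rfl⟩
  obtain ⟨b, hb⟩ : ∃ b : G, b = a ^ (p ^ k) := ⟨_, rfl⟩
  have ha1k : a1 ^ (p ^ k) = 1 := by
    rw [ha1, ← pow_mul, mul_comm, ← hn, pow_orderOf_eq_one]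
  have hbm : b ^ m = 1 := by rw [hb, ← pow_mul, ← hn, pow_orderOf_eq_one]
  have ha1p : IsPGroup p (Subgroup.zpowers a1) := by
    rintro ⟨g, hg⟩
    obtain ⟨i, rfl⟩ := Subgroup.mem_zpowers_iff.mp hg
    refine ⟨k, Subtype.ext ?_⟩
    show (a1 ^ i) ^ p ^ k = 1
    rw [← zpow_natCast, ← zpow_mul, mul_comm, zpow_mul, zpow_natCast, ha1k, one_zpow]
  have hzb : Subgroup.zpowers b ≤ Subgroup.zpowers a :=
    Subgroup.zpowers_le.mpr (hb ▸ Subgroup.pow_mem _ (Subgroup.mem_zpowers a) _)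
  have hza1 : Subgroup.zpowers a1 ≤ Subgroup.zpowers a :=
    Subgroup.zpowers_le.mpr (ha1 ▸ Subgroup.pow_mem _ (Subgroup.mem_zpowers a) _)
  have hbcop : (Nat.card (Subgroup.zpowers b)).Coprime (Nat.card P1) := by
    rw [Nat.card_zpowers]
    obtain ⟨j, hj⟩ := IsPGroup.iff_card.mp hP1
    rw [hj]
    have h1 : (orderOf b).Coprime p :=
      Nat.Coprime.coprime_dvd_left (orderOf_dvd_of_pow_eq_one hbm) hpm.symm
    exact Nat.Coprime.pow_right j h1
  have hbC : b ∈ Subgroup.centralizer (P1 : Set G) := by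
    have hsol : Group.IsSolvable ↥(Subgroup.zpowers b) := by
      have hcyc : IsCyclic ↥(Subgroup.zpowers b) := inferInstance
      exact Group.isSolvable_of_comm (fun x y => IsCyclic.commGroup.mul_comm x y)
    have h1 := Cfsg.Agent.Lib.Helper1.coprime_commutator_commutator (Subgroup.zpowers b) P1
      (hzb.trans hza) hbcop (Or.inl hsol)
    have h2 : ⁅⁅P1, Subgroup.zpowers b⁆, Subgroup.zpowers b⁆ = ⊥ :=
      le_bot_iff.mp (hquad ▸ Subgroup.commutator_mono (Subgroup.commutator_mono le_rfl hzb) hzb)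
    rw [h2] at h1
    rw [Subgroup.mem_centralizer_iff]
    intro g hg
    have h3 : ⁅g, b⁆ ∈ ⁅P1, Subgroup.zpowers b⁆ :=
      Subgroup.commutator_mem_commutator hg (Subgroup.mem_zpowers b)
    rw [← h1, Subgroup.mem_bot] at h3
    exact commutatorElement_eq_one_iff_mul_comm.mp h3
  -- apply `p`-stability of `G`
  have hst := hs.2.2 (Subgroup.zpowers a1) P1 ha1p hP1
    (fun x hx y hy => (Subgroup.mem_normalizer_iff.mp (hza (hza1 hx)) y).mp hy)
    (by
      intro x hx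
      show QuotientGroup.mk' (Cfsg.pPrimeCore p G) x ∈ Cfsg.pCore p (G ⧸ Cfsg.pPrimeCore p G)
      exact Cfsg.Agent.Lib.Helper11.le_pCore' hVn hV (hP1V ▸ Subgroup.mem_map_of_mem _ hx))
    (by
      have h1 : Cfsg.pPrimeCore p G ⊔ P1 = V.comap (QuotientGroup.mk' (Cfsg.pPrimeCore p G)) := by
        rw [← hP1V, Subgroup.comap_map_eq, QuotientGroup.ker_mk', sup_comm]
      rw [h1]
      exact Subgroup.Normal.comap hVn _)
    (le_bot_iff.mp (hquad ▸ Subgroup.commutator_mono (Subgroup.commutator_mono le_rfl hza1) hza1))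
  -- the surjection `N_G(P1)/C_G(P1) → (G/K)/C(V)`
  obtain ⟨ψ, hψ⟩ : ∃ ψ : ↥(Subgroup.normalizer (P1 : Set G)) →*
      (G ⧸ Cfsg.pPrimeCore p G) ⧸ Subgroup.centralizer (V : Set (G ⧸ Cfsg.pPrimeCore p G)),
      ψ = (QuotientGroup.mk' _).comp ((QuotientGroup.mk' (Cfsg.pPrimeCore p G)).comp
        (Subgroup.normalizer (P1 : Set G)).subtype) := ⟨_, rfl⟩
  have hψker : (Subgroup.centralizer (P1 : Set G)).subgroupOf (Subgroup.normalizer (P1 : Set G)) ≤
      ψ.ker := by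
    intro n hn
    rw [MonoidHom.mem_ker, hψ]
    show QuotientGroup.mk' _ (QuotientGroup.mk' (Cfsg.pPrimeCore p G) (n : G)) = 1
    rw [QuotientGroup.mk'_apply, QuotientGroup.eq_one_iff, Subgroup.mem_centralizer_iff]
    intro v hv
    rw [SetLike.mem_coe, ← hP1V] at hv
    obtain ⟨g, hg, rfl⟩ := hv
    have h1 := (Subgroup.mem_centralizer_iff.mp (Subgroup.mem_subgroupOf.mp hn)) g hg
    rw [← map_mul, ← map_mul, h1]
  have hψs : Function.Surjective (QuotientGroup.lift _ ψ hψker) := by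
    intro y
    obtain ⟨xb, rfl⟩ := QuotientGroup.mk'_surjective _ y
    have h1 : xb ∈ (Subgroup.normalizer (P1 : Set G)).map
        (QuotientGroup.mk' (Cfsg.pPrimeCore p G)) := by rw [hNtop]; trivial
    obtain ⟨n, hn, rfl⟩ := h1
    refine ⟨QuotientGroup.mk' _ ⟨n, hn⟩, ?_⟩
    rw [QuotientGroup.mk'_apply, QuotientGroup.lift_mk, hψ]
    rfl
  have hcore : (Cfsg.pCore p _).map (QuotientGroup.lift _ ψ hψker) ≤ Cfsg.pCore p _ :=
    Cfsg.Agent.Lib.Helper11.le_pCore'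
      ((Cfsg.Agent.Lib.Helper11.pCore_normal' p _).map _ hψs)
      ((Cfsg.Agent.Lib.Helper11.pCore_isPGroup' p _).map _)
  have hmem : QuotientGroup.mk' ((Subgroup.centralizer (P1 : Set G)).subgroupOf
      (Subgroup.normalizer (P1 : Set G))) ⟨a, haN⟩ ∈ Cfsg.pCore p _ := by
    have hcop : Nat.Coprime (p ^ k) m := Nat.Coprime.pow_left k hpm
    have hbez := Nat.gcd_eq_gcd_ab (p ^ k) m
    rw [hcop.gcd_eq_one] at hbez
    have hbN : b ∈ Subgroup.normalizer (P1 : Set G) := hza (hzb (Subgroup.mem_zpowers b))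
    have ha1N : a1 ∈ Subgroup.normalizer (P1 : Set G) := hza (hza1 (Subgroup.mem_zpowers a1))
    have ha_eq : (⟨a, haN⟩ : ↥(Subgroup.normalizer (P1 : Set G))) =
        ⟨b, hbN⟩ ^ (Nat.gcdA (p ^ k) m) * ⟨a1, ha1N⟩ ^ (Nat.gcdB (p ^ k) m) := by
      apply Subtype.ext
      simp only [Subgroup.coe_mul, Subgroup.coe_zpow]
      rw [hb, ha1, ← zpow_natCast a (p ^ k), ← zpow_natCast a m, ← zpow_mul, ← zpow_mul,
        ← zpow_add, ← hbez]
      simp
    rw [ha_eq, map_mul, map_zpow, map_zpow]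
    have hb1 : QuotientGroup.mk' ((Subgroup.centralizer (P1 : Set G)).subgroupOf
        (Subgroup.normalizer (P1 : Set G))) ⟨b, hbN⟩ = 1 :=
      (QuotientGroup.eq_one_iff _).mpr (Subgroup.mem_subgroupOf.mpr hbC)
    rw [hb1, one_zpow, one_mul]
    apply Subgroup.zpow_mem
    apply hst
    exact ⟨⟨a1, ha1N⟩, Subgroup.mem_subgroupOf.mpr (Subgroup.mem_zpowers a1), rfl⟩
  have hfin := hcore ⟨_, hmem, rfl⟩
  rw [QuotientGroup.mk'_apply, QuotientGroup.lift_mk, hψ] at hfin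
  exact hfin

end Stable

section Transport

variable {G G' : Type u} [Group G] [Group G']

/-- A homomorphism that is injective on `B` preserves the order of `B`. -/
theorem card_map_of_inf_ker (f : G →* G') (B : Subgroup G) (hB : B ⊓ f.ker = ⊥) :
    Nat.card (B.map f) = Nat.card B := by
  have hinj : Function.Injective (f.comp B.subtype) := by
    rw [injective_iff_map_eq_one]
    intro x hx
    have h1 : (x : G) ∈ B ⊓ f.ker := ⟨x.2, hx⟩
    rw [hB, Subgroup.mem_bot] at h1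
    exact Subtype.ext h1
  have h1 : B.map f = (f.comp B.subtype).range := by
    rw [MonoidHom.range_eq_map, ← Subgroup.map_map, ← MonoidHom.range_eq_map,
      Subgroup.range_subtype]
  rw [h1]
  exact (Nat.card_congr (MonoidHom.ofInjective hinj).toEquiv).symm

theorem eq_of_map_eq_of_inf_ker (f : G →* G') (P : Subgroup G) (hP : P ⊓ f.ker = ⊥)
    {x y : G} (hx : x ∈ P) (hy : y ∈ P) (hxy : f x = f y) : x = y := by
  have h0 : x * y⁻¹ ∈ f.ker := by
    rw [MonoidHom.mem_ker, map_mul, map_inv, hxy, mul_inv_cancel]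
  have h1 : x * y⁻¹ ∈ P ⊓ f.ker := ⟨P.mul_mem hx (P.inv_mem hy), h0⟩
  rw [hP, Subgroup.mem_bot] at h1
  exact mul_inv_eq_one.mp h1

/-- Abelian subgroups of largest order correspond under a homomorphism injective on `P`. -/
theorem maxIn_comm_map (f : G →* G') (P : Subgroup G) (hP : P ⊓ f.ker = ⊥) :
    Cfsg.Agent.Lib.Helper11.maxIn (fun A : Subgroup G' => IsMulCommutative A) (P.map f) =
      Subgroup.map f '' Cfsg.Agent.Lib.Helper11.maxIn (fun A : Subgroup G => IsMulCommutative A) P := by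
  have hker : ∀ B : Subgroup G, B ≤ P → B ⊓ f.ker = ⊥ := fun B hB =>
    le_bot_iff.mp (hP ▸ inf_le_inf_right _ hB)
  -- pull back a subgroup of `P.map f`
  have hpull : ∀ B' : Subgroup G', B' ≤ P.map f → (B'.comap f ⊓ P).map f = B' := by
    intro B' hB'
    apply le_antisymm
    · rintro _ ⟨x, hx, rfl⟩
      exact hx.1
    · intro y hy
      obtain ⟨x, hx, rfl⟩ := hB' hy
      exact ⟨x, ⟨hy, hx⟩, rfl⟩
  have hpullc : ∀ B' : Subgroup G', IsMulCommutative B' → IsMulCommutative ↥(B'.comap f ⊓ P) := by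
    intro B' hB'
    refine IsMulCommutative.of_setLike_mul_comm ?_
    intro x hx y hy
    apply eq_of_map_eq_of_inf_ker f P hP (P.mul_mem hx.2 hy.2) (P.mul_mem hy.2 hx.2)
    rw [map_mul, map_mul]
    exact setLike_mul_comm (s := B') hx.1 hy.1
  ext A'
  constructor
  · rintro ⟨hA'P, hA'c, hmax⟩
    refine ⟨A'.comap f ⊓ P, ⟨inf_le_right, hpullc A' hA'c, ?_⟩, hpull A' hA'P⟩
    intro B hB hBc
    have h1 := hmax (B.map f) (Subgroup.map_mono hB) (Cfsg.Agent.Lib.Helper11.comm_map' f hBc)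
    rw [card_map_of_inf_ker f B (hker B hB)] at h1
    rw [← card_map_of_inf_ker f (A'.comap f ⊓ P) (hker _ inf_le_right), hpull A' hA'P]
    exact h1
  · rintro ⟨A, ⟨hAP, hAc, hmax⟩, rfl⟩
    refine ⟨Subgroup.map_mono hAP, Cfsg.Agent.Lib.Helper11.comm_map' f hAc, ?_⟩
    intro B' hB' hB'c
    have h1 := hmax (B'.comap f ⊓ P) inf_le_right (hpullc B' hB'c)
    rw [← card_map_of_inf_ker f (B'.comap f ⊓ P) (hker _ inf_le_right), hpull B' hB',
      ← card_map_of_inf_ker f A (hker A hAP)] at h1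
    exact h1

/-- The intersection of a nonempty family of subgroups of `P` commutes with a homomorphism injective
on `P`. -/
theorem map_sInf_of_inf_ker (f : G →* G') (P : Subgroup G) (hP : P ⊓ f.ker = ⊥)
    (𝒜 : Set (Subgroup G)) (hne : 𝒜.Nonempty) (h𝒜 : ∀ A ∈ 𝒜, A ≤ P) :
    (sInf 𝒜).map f = sInf (Subgroup.map f '' 𝒜) := by
  ext x
  constructor
  · rintro ⟨y, hy, rfl⟩
    rw [Subgroup.mem_sInf]
    rintro _ ⟨A, hA, rfl⟩
    exact Subgroup.mem_map_of_mem f ((Subgroup.mem_sInf.mp hy) A hA)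
  · intro hx
    rw [Subgroup.mem_sInf] at hx
    obtain ⟨A₀, hA₀⟩ := hne
    obtain ⟨y₀, hy₀, rfl⟩ := hx _ ⟨A₀, hA₀, rfl⟩
    refine ⟨y₀, ?_, rfl⟩
    rw [SetLike.mem_coe, Subgroup.mem_sInf]
    intro A hA
    obtain ⟨y, hy, hyy⟩ := hx _ ⟨A, hA, rfl⟩
    rw [← eq_of_map_eq_of_inf_ker f P hP (h𝒜 A hA hy) (h𝒜 A₀ hA₀ hy₀) hyy]
    exact hy

end Transport

section Main

variable {G : Type u} [Group G] [Finite G] {p : ℕ} [Fact p.Prime]

/-- Glauberman's ZJ-theorem for `p`-constrained `p`-stable groups: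
`G = O_{p'}(G) N_G(Z(J(P)))` (abelian version of `J`). -/
theorem zj_factorization (hp : p ≠ 2) (hc : Cfsg.IsPConstrained p G) (hs : Cfsg.IsPStable p G)
    (P : Sylow p G) :
    Cfsg.pPrimeCore p G ⊔ Subgroup.normalizer (Cfsg.centerThompsonAOf (P : Subgroup G) : Set G) = ⊤ := by
  have hKc : (Nat.card (Cfsg.pPrimeCore p G)).Coprime p :=
    Cfsg.Agent.Lib.Helper34.card_pPrimeCore_coprime p G
  have hPK : (P : Subgroup G) ⊓ (QuotientGroup.mk' (Cfsg.pPrimeCore p G)).ker = ⊥ := by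
    rw [QuotientGroup.ker_mk']
    exact pGroup_inf_coprime_eq_bot P.isPGroup' hKc
  have hsurj := QuotientGroup.mk'_surjective (Cfsg.pPrimeCore p G)
  have hzj := Cfsg.Agent.Lib.Helper11.zj_generic hp (centralizer_pCore_quotient_le hc)
    (fun V _ hV => isPStableOn_quotient hs V hV) (Sylow.mapSurjective hsurj P)
    (Cfsg.Agent.Lib.Helper11.replClass_comm (G ⧸ Cfsg.pPrimeCore p G))
  rw [Sylow.coe_mapSurjective, maxIn_comm_map _ _ hPK,
    ← map_sInf_of_inf_ker _ _ hPK _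
      (Cfsg.Agent.Lib.Helper11.maxIn_nonempty (Φ := fun A : Subgroup G => IsMulCommutative A)
        (Cfsg.Agent.Lib.Helper11.replClass_comm G).bot _)
      (fun A hA => hA.1),
    ← Cfsg.Agent.Lib.Helper11.centerThompsonAOf_eq] at hzj
  have hZle : Cfsg.centerThompsonAOf (P : Subgroup G) ≤ P := by
    rw [Cfsg.Agent.Lib.Helper11.centerThompsonAOf_eq]
    obtain ⟨A, hA⟩ := Cfsg.Agent.Lib.Helper11.maxIn_nonempty
      (Φ := fun A : Subgroup G => IsMulCommutative A)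
      (Cfsg.Agent.Lib.Helper11.replClass_comm G).bot (P : Subgroup G)
    exact (sInf_le hA).trans hA.1
  have hZp : IsPGroup p (Cfsg.centerThompsonAOf (P : Subgroup G)) := P.isPGroup'.to_le hZle
  have hN := Cfsg.Agent.Lib.Helper22.normalizer_map_mk_of_coprime (Cfsg.pPrimeCore p G) hKc _ hZp
  have hnorm : (Subgroup.map (QuotientGroup.mk' (Cfsg.pPrimeCore p G))
      (Cfsg.centerThompsonAOf (P : Subgroup G))).Normal := inferInstance
  rw [Subgroup.normalizer_eq_top_iff.mpr hnorm] at hN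
  have h1 := Subgroup.comap_map_eq (QuotientGroup.mk' (Cfsg.pPrimeCore p G))
    (Subgroup.normalizer (Cfsg.centerThompsonAOf (P : Subgroup G) : Set G))
  rw [hN, Subgroup.comap_top, QuotientGroup.ker_mk'] at h1
  rw [sup_comm]
  exact h1.symm

end Main

end Cfsg.Agent.Lib.Lead
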