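import Mathlib
import Cfsg.Agent.Lib.Lead.ZJFact

/-!
`p`-locals of a group all of whose `p`-locals are `p`-constrained, `p`-stable with trivial `p'`-core
lie in `N_G(Z(J(P)))` (lead).
-/

set_option autoImplicit false

namespace Cfsg.Agent.Lib.Lead

open Cfsg
open scoped commutatorElement

universe u

section Locals

variable {G : Type u} [Group G] [Finite G] {p : ℕ} [Fact p.Prime]

theorem le_normalizer_of_forall_conj_mem {H N : Subgroup G}
    (h : ∀ g ∈ N, ∀ x ∈ H, g * x * g⁻¹ ∈ H) : N ≤ Subgroup.normalizer (H : Set G) := by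
  intro g hg
  rw [Subgroup.mem_normalizer_iff]
  intro x
  constructor
  · exact h g hg x
  · intro hx
    have h1 := h g⁻¹ (N.inv_mem hg) _ hx
    simpa [mul_assoc] using h1

theorem card_lt_card_of_lt {H K : Subgroup G} (h : H < K) : Nat.card H < Nat.card K := by
  by_contra hcon
  exact h.ne (Subgroup.eq_of_le_of_card_ge h.le (not_lt.mp hcon))

/-- `Z(J(R))` computed in a subgroup `N` of `G` or in `G` itself. -/
theorem centerThompsonAOf_map_subtype (N : Subgroup G) (R : Subgroup ↥N) :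
    Cfsg.centerThompsonAOf (R.map N.subtype) = (Cfsg.centerThompsonAOf R).map N.subtype := by
  have hker : R ⊓ N.subtype.ker = ⊥ := by rw [Subgroup.ker_subtype, inf_bot_eq]
  rw [Cfsg.Agent.Lib.Helper11.centerThompsonAOf_eq, Cfsg.Agent.Lib.Helper11.centerThompsonAOf_eq,
    maxIn_comm_map _ _ hker,
    ← map_sInf_of_inf_ker _ _ hker _
      (Cfsg.Agent.Lib.Helper11.maxIn_nonempty (Φ := fun A : Subgroup ↥N => IsMulCommutative A)
        (Cfsg.Agent.Lib.Helper11.replClass_comm ↥N).bot _)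
      (fun A hA => hA.1)]

theorem centerThompsonAOf_le (R0 : Subgroup G) : Cfsg.centerThompsonAOf R0 ≤ R0 := by
  rw [Cfsg.Agent.Lib.Helper11.centerThompsonAOf_eq]
  obtain ⟨A, hA⟩ := Cfsg.Agent.Lib.Helper11.maxIn_nonempty
    (Φ := fun A : Subgroup G => IsMulCommutative A)
    (Cfsg.Agent.Lib.Helper11.replClass_comm G).bot R0
  exact (sInf_le hA).trans hA.1

theorem normalizer_le_normalizer_centerThompsonAOf (R0 : Subgroup G) :
    Subgroup.normalizer (R0 : Set G) ≤ Subgroup.normalizer (Cfsg.centerThompsonAOf R0 : Set G) := by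
  rw [Cfsg.Agent.Lib.Helper11.centerThompsonAOf_eq]
  exact Cfsg.Agent.Lib.Helper11.normalizer_le_normalizer_sInf_maxIn
    (Cfsg.Agent.Lib.Helper11.replClass_comm G).map_equiv R0

/-- `Z(J(R0)) ≠ 1` for a nontrivial `p`-group `R0`. -/
theorem centerThompsonAOf_ne_bot (R0 : Subgroup G) (hR : IsPGroup p R0) (hne : R0 ≠ ⊥) :
    Cfsg.centerThompsonAOf R0 ≠ ⊥ := by
  have : Nontrivial ↥R0 := (Subgroup.nontrivial_iff_ne_bot R0).mpr hne
  have := hR.center_nontrivial
  obtain ⟨z, hz⟩ := exists_ne (1 : Subgroup.center ↥R0)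
  have hzmem : ((z : ↥R0) : G) ∈ Cfsg.centerThompsonAOf R0 := by
    rw [Cfsg.Agent.Lib.Helper11.centerThompsonAOf_eq, Subgroup.mem_sInf]
    rintro A ⟨hAR, hAc, hmax⟩
    have hcomm : ∀ y ∈ ((A : Set G) ∪ {((z : ↥R0) : G)}), ∀ w ∈ ((A : Set G) ∪ {((z : ↥R0) : G)}),
        y * w = w * y := by
      intro y hy w hw
      rcases hy with hy | hy <;> rcases hw with hw | hw
      · exact setLike_mul_comm hy hw
      · rw [Set.mem_singleton_iff] at hw; subst hw
        have h1 := Subgroup.mem_center_iff.mp z.2 ⟨y, hAR hy⟩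
        exact congrArg Subtype.val h1
      · rw [Set.mem_singleton_iff] at hy; subst hy
        have h1 := Subgroup.mem_center_iff.mp z.2 ⟨w, hAR hw⟩
        exact (congrArg Subtype.val h1).symm
      · rw [Set.mem_singleton_iff] at hy hw; subst hy; subst hw; rfl
    have hB : IsMulCommutative (Subgroup.closure ((A : Set G) ∪ {((z : ↥R0) : G)})) :=
      Subgroup.isMulCommutative_closure hcomm
    have hBR : Subgroup.closure ((A : Set G) ∪ {((z : ↥R0) : G)}) ≤ R0 := by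
      rw [Subgroup.closure_le]
      rintro y (hy | hy)
      · exact hAR hy
      · rw [Set.mem_singleton_iff] at hy; subst hy; exact (z : ↥R0).2
    have hle : A ≤ Subgroup.closure ((A : Set G) ∪ {((z : ↥R0) : G)}) := fun y hy =>
      Subgroup.subset_closure (Or.inl hy)
    have h2 := Subgroup.eq_of_le_of_card_ge hle (hmax _ hBR hB)
    rw [h2]
    exact Subgroup.subset_closure (Or.inr rfl)
  intro hbot
  rw [hbot, Subgroup.mem_bot] at hzmem
  exact hz (Subtype.ext (Subtype.ext hzmem))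

/-- Normalizers grow in `p`-groups. -/
theorem exists_mem_normalizer_not_mem {R0 T : Subgroup G} (hT : IsPGroup p T) (hlt : R0 < T) :
    ∃ x ∈ T, x ∈ Subgroup.normalizer (R0 : Set G) ∧ x ∉ R0 := by
  have : Group.IsNilpotent ↥T := hT.isNilpotent
  have hnc := Group.normalizerCondition_of_isNilpotent (G := ↥T)
  have h1 : R0.subgroupOf T < ⊤ := by
    rw [lt_top_iff_ne_top]
    intro h
    rw [Subgroup.subgroupOf_eq_top] at h
    exact hlt.ne (le_antisymm hlt.le h)
  have h2 := hnc _ h1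
  obtain ⟨x, hxN, hxR⟩ := SetLike.exists_of_lt h2
  refine ⟨x, x.2, ?_, fun h => hxR (Subgroup.mem_subgroupOf.mpr h)⟩
  rw [Subgroup.mem_normalizer_iff]
  intro y
  constructor
  · intro hy
    have hyT : y ∈ T := hlt.le hy
    have h3 := (Subgroup.mem_normalizer_iff.mp hxN ⟨y, hyT⟩).mp (Subgroup.mem_subgroupOf.mpr hy)
    exact Subgroup.mem_subgroupOf.mp h3
  · intro hy
    have hyT : y ∈ T := by
      have h4 : (x : G)⁻¹ * ((x : G) * y * (x : G)⁻¹) * (x : G) ∈ T :=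
        T.mul_mem (T.mul_mem (T.inv_mem x.2) (hlt.le hy)) x.2
      simpa [mul_assoc] using h4
    have h3 := (Subgroup.mem_normalizer_iff.mp hxN ⟨y, hyT⟩).mpr (Subgroup.mem_subgroupOf.mpr hy)
    exact Subgroup.mem_subgroupOf.mp h3

/-- Sylow's theorem inside a subgroup `M` containing the Sylow subgroup `P`. -/
theorem exists_conj_le_sylow_of_le (P : Sylow p G) {M T : Subgroup G}
    (hPM : (P : Subgroup G) ≤ M) (hT : IsPGroup p T) (hTM : T ≤ M) :
    ∃ m ∈ M, ∀ t ∈ T, m * t * m⁻¹ ∈ (P : Subgroup G) := by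
  have hT' : IsPGroup p (T.subgroupOf M) :=
    hT.comap_of_injective M.subtype (Subgroup.subtype_injective M)
  obtain ⟨S', hS'⟩ := hT'.exists_le_sylow
  obtain ⟨m, hm⟩ := MulAction.exists_smul_eq ↥M S' (P.subtype hPM)
  refine ⟨m, m.2, fun t ht => ?_⟩
  have h1 : (⟨t, hTM ht⟩ : ↥M) ∈ (S' : Subgroup ↥M) := hS' (Subgroup.mem_subgroupOf.mpr ht)
  have h2 : m * ⟨t, hTM ht⟩ * m⁻¹ ∈ ((m • S' : Sylow p ↥M) : Subgroup ↥M) := by
    rw [Cfsg.Agent.Lib.Helper11.mem_sylow_smul_iff']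
    have h3 : m⁻¹ * (m * ⟨t, hTM ht⟩ * m⁻¹) * m = ⟨t, hTM ht⟩ := by group
    rw [h3]
    exact h1
  rw [hm, Sylow.coe_subtype] at h2
  exact Subgroup.mem_subgroupOf.mp h2

theorem conj_mem_normalizer_map_conj {H : Subgroup G} {g : G} (m : G)
    (hg : g ∈ Subgroup.normalizer (H : Set G)) :
    m * g * m⁻¹ ∈ Subgroup.normalizer ((H.map (MulAut.conj m).toMonoidHom : Subgroup G) : Set G) := by
  rw [Subgroup.mem_normalizer_iff]
  intro x
  rw [Cfsg.Agent.Lib.Helper11.mem_map_conj_iff', Cfsg.Agent.Lib.Helper11.mem_map_conj_iff',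
    Subgroup.mem_normalizer_iff.mp hg (m⁻¹ * x * m)]
  have h1 : m⁻¹ * (m * g * m⁻¹ * x * (m * g * m⁻¹)⁻¹) * m = g * (m⁻¹ * x * m) * g⁻¹ := by group
  rw [h1]

/-- In a `p`-local `N` with trivial `p'`-core that is `p`-constrained and `p`-stable, `Z(J(R))` is normal
for a Sylow `p`-subgroup `R` of `N`. -/
theorem le_normalizer_zj_of_sylow (hp : p ≠ 2) (N : Subgroup G)
    (h1 : Cfsg.pPrimeCore p ↥N = ⊥) (h2 : Cfsg.IsPConstrained p ↥N) (h3 : Cfsg.IsPStable p ↥N)
    (R : Sylow p ↥N) :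
    N ≤ Subgroup.normalizer
      (Cfsg.centerThompsonAOf ((R : Subgroup ↥N).map N.subtype) : Set G) := by
  have h := zj_factorization hp h2 h3 R
  rw [h1, bot_sup_eq] at h
  rw [centerThompsonAOf_map_subtype]
  apply le_normalizer_of_forall_conj_mem
  rintro g hg _ ⟨y, hy, rfl⟩
  have hgN : (⟨g, hg⟩ : ↥N) ∈
      Subgroup.normalizer (Cfsg.centerThompsonAOf (R : Subgroup ↥N) : Set ↥N) := by
    rw [h]; trivial
  exact ⟨⟨g, hg⟩ * y * ⟨g, hg⟩⁻¹, (Subgroup.mem_normalizer_iff.mp hgN y).mp hy, rfl⟩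

/-- All `p`-locals lie in `N_G(Z(J(P)))`. -/
theorem zj_locals (hp : p ≠ 2)
    (hloc : ∀ Q : Subgroup G, IsPGroup p Q → Q ≠ ⊥ →
      Cfsg.pPrimeCore p ↥(Subgroup.normalizer (Q : Set G)) = ⊥ ∧
      Cfsg.IsPConstrained p ↥(Subgroup.normalizer (Q : Set G)) ∧
      Cfsg.IsPStable p ↥(Subgroup.normalizer (Q : Set G)))
    (P : Sylow p G) :
    ∀ (d : ℕ) (Q : Subgroup G), Q ≤ (P : Subgroup G) → Q ≠ ⊥ →
      Nat.card (P : Subgroup G) -
        Nat.card ↥((P : Subgroup G) ⊓ Subgroup.normalizer (Q : Set G)) = d →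
      Subgroup.normalizer (Q : Set G) ≤
        Subgroup.normalizer (Cfsg.centerThompsonAOf (P : Subgroup G) : Set G) := by
  intro d
  induction d using Nat.strong_induction_on with
  | _ d ih =>
  intro Q hQP hQ1 hd
  obtain ⟨M, hM⟩ : ∃ M : Subgroup G,
      M = Subgroup.normalizer (Cfsg.centerThompsonAOf (P : Subgroup G) : Set G) := ⟨_, rfl⟩
  obtain ⟨N, hN⟩ : ∃ N : Subgroup G, N = Subgroup.normalizer (Q : Set G) := ⟨_, rfl⟩
  obtain ⟨R0, hR0⟩ : ∃ R0 : Subgroup G, R0 = (P : Subgroup G) ⊓ N := ⟨_, rfl⟩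
  rw [← hM, ← hN]
  rw [← hN, ← hR0] at hd
  have hQp : IsPGroup p Q := P.isPGroup'.to_le hQP
  obtain ⟨h1, h2, h3⟩ := hloc Q hQp hQ1
  rw [← hN] at h1 h2 h3
  have hPM : (P : Subgroup G) ≤ M := by
    rw [hM]
    exact Subgroup.le_normalizer.trans (normalizer_le_normalizer_centerThompsonAOf _)
  have hR0P : R0 ≤ (P : Subgroup G) := hR0 ▸ inf_le_left
  have hR0N : R0 ≤ N := hR0 ▸ inf_le_right
  have hQR0 : Q ≤ R0 := hR0 ▸ le_inf hQP (hN ▸ Subgroup.le_normalizer)
  have hR0ne : R0 ≠ ⊥ := fun h => hQ1 (le_bot_iff.mp (h ▸ hQR0))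
  have hR0p : IsPGroup p R0 := P.isPGroup'.to_le hR0P
  obtain ⟨R, hR⟩ := (hR0p.comap_of_injective N.subtype (Subgroup.subtype_injective N)).exists_le_sylow
  obtain ⟨R', hR'⟩ : ∃ R' : Subgroup G, R' = (R : Subgroup ↥N).map N.subtype := ⟨_, rfl⟩
  have hR0R' : R0 ≤ R' := by
    intro x hx
    rw [hR']
    exact ⟨⟨x, hR0N hx⟩, hR (Subgroup.mem_subgroupOf.mpr hx), rfl⟩
  have hR'N : R' ≤ N := by
    rw [hR']
    rintro _ ⟨y, _, rfl⟩
    exact y.2
  have hR'p : IsPGroup p R' := hR' ▸ R.isPGroup'.map _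
  have hNle : N ≤ Subgroup.normalizer (Cfsg.centerThompsonAOf R' : Set G) :=
    hR' ▸ le_normalizer_zj_of_sylow hp N h1 h2 h3 R
  have key : ∀ Q' : Subgroup G, Q' ≤ (P : Subgroup G) → Q' ≠ ⊥ →
      Nat.card R0 < Nat.card ↥((P : Subgroup G) ⊓ Subgroup.normalizer (Q' : Set G)) →
      Subgroup.normalizer (Q' : Set G) ≤ M := by
    intro Q' hQ'P hQ'1 hlt
    have hle : Nat.card ↥((P : Subgroup G) ⊓ Subgroup.normalizer (Q' : Set G)) ≤
        Nat.card (P : Subgroup G) := Subgroup.card_le_of_le inf_le_left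
    rw [hM]
    exact ih _ (by omega) Q' hQ'P hQ'1 rfl
  by_cases hcase : R' = R0
  · rw [hcase] at hNle
    by_cases hRP : R0 = (P : Subgroup G)
    · rw [hRP, ← hM] at hNle
      exact hNle
    · have hlt : R0 < (P : Subgroup G) := lt_of_le_of_ne hR0P hRP
      obtain ⟨x, hxP, hxN, hxR⟩ := exists_mem_normalizer_not_mem P.isPGroup' hlt
      have hZ1R : Cfsg.centerThompsonAOf R0 ≤ R0 := centerThompsonAOf_le R0
      have hZ1ne : Cfsg.centerThompsonAOf R0 ≠ ⊥ := centerThompsonAOf_ne_bot R0 hR0p hR0ne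
      have hR0le : R0 ≤ (P : Subgroup G) ⊓
          Subgroup.normalizer (Cfsg.centerThompsonAOf R0 : Set G) :=
        le_inf hR0P (Subgroup.le_normalizer.trans (normalizer_le_normalizer_centerThompsonAOf R0))
      have hx' : x ∈ (P : Subgroup G) ⊓
          Subgroup.normalizer (Cfsg.centerThompsonAOf R0 : Set G) :=
        ⟨hxP, normalizer_le_normalizer_centerThompsonAOf R0 hxN⟩
      have hcardlt : Nat.card R0 < Nat.card ↥((P : Subgroup G) ⊓
          Subgroup.normalizer (Cfsg.centerThompsonAOf R0 : Set G)) :=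
        card_lt_card_of_lt (lt_of_le_of_ne hR0le (fun h => hxR (h ▸ hx')))
      exact hNle.trans (key _ (hZ1R.trans hR0P) hZ1ne hcardlt)
  · have hlt : R0 < R' := lt_of_le_of_ne hR0R' (Ne.symm hcase)
    obtain ⟨x, hxR', hxN, hxR⟩ := exists_mem_normalizer_not_mem hR'p hlt
    have hRP : R0 ≠ (P : Subgroup G) := by
      intro h
      have h5 := P.is_maximal' hR'p (h ▸ hR0R')
      exact hcase (h5.trans h.symm)
    have hltP : R0 < (P : Subgroup G) := lt_of_le_of_ne hR0P hRP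
    obtain ⟨y, hyP, hyN, hyR⟩ := exists_mem_normalizer_not_mem P.isPGroup' hltP
    have hNR0 : Subgroup.normalizer (R0 : Set G) ≤ M := by
      apply key R0 hR0P hR0ne
      have hle : R0 ≤ (P : Subgroup G) ⊓ Subgroup.normalizer (R0 : Set G) :=
        le_inf hR0P Subgroup.le_normalizer
      exact card_lt_card_of_lt (lt_of_le_of_ne hle (fun h => hyR (h ▸ ⟨hyP, hyN⟩)))
    have hxM : x ∈ M := hNR0 hxN
    obtain ⟨T, hT⟩ : ∃ T : Subgroup G, T = R0 ⊔ Subgroup.zpowers x := ⟨_, rfl⟩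
    have hTR' : T ≤ R' := hT ▸ sup_le hR0R' (Subgroup.zpowers_le.mpr hxR')
    have hTp : IsPGroup p T := hR'p.to_le hTR'
    have hTM : T ≤ M := hT ▸ sup_le (hR0P.trans hPM) (Subgroup.zpowers_le.mpr hxM)
    have hTN : T ≤ N := hTR'.trans hR'N
    have hR0T : R0 < T := by
      refine lt_of_le_of_ne (hT ▸ le_sup_left) (fun h => hxR ?_)
      rw [h, hT]
      exact (le_sup_right : Subgroup.zpowers x ≤ R0 ⊔ Subgroup.zpowers x) (Subgroup.mem_zpowers x)
    obtain ⟨m, hmM, hm⟩ := exists_conj_le_sylow_of_le P hPM hTp hTM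
    have hQ2P : Q.map (MulAut.conj m).toMonoidHom ≤ (P : Subgroup G) := by
      rintro _ ⟨q, hq, rfl⟩
      exact hm q (hR0T.le (hQR0 hq))
    have hQ2ne : Q.map (MulAut.conj m).toMonoidHom ≠ ⊥ := by
      intro h
      exact hQ1 ((Subgroup.map_eq_bot_iff_of_injective _ (MulAut.conj m).injective).mp h)
    have hTconj : T.map (MulAut.conj m).toMonoidHom ≤ (P : Subgroup G) ⊓
        Subgroup.normalizer ((Q.map (MulAut.conj m).toMonoidHom : Subgroup G) : Set G) := by
      rintro _ ⟨t, ht, rfl⟩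
      exact ⟨hm t ht, conj_mem_normalizer_map_conj m (hN ▸ hTN ht)⟩
    have hcard : Nat.card R0 < Nat.card ↥((P : Subgroup G) ⊓
        Subgroup.normalizer ((Q.map (MulAut.conj m).toMonoidHom : Subgroup G) : Set G)) := by
      calc Nat.card R0 < Nat.card T := card_lt_card_of_lt hR0T
        _ = Nat.card (T.map (MulAut.conj m).toMonoidHom) :=
            (Subgroup.card_map_of_injective (MulAut.conj m).injective).symm
        _ ≤ _ := Subgroup.card_le_of_le hTconj
    have hN2 := key _ hQ2P hQ2ne hcard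
    intro g hg
    have h5 : m * g * m⁻¹ ∈ Subgroup.normalizer
        ((Q.map (MulAut.conj m).toMonoidHom : Subgroup G) : Set G) :=
      conj_mem_normalizer_map_conj m (hN ▸ hg)
    have h6 := hN2 h5
    have h7 : g = m⁻¹ * (m * g * m⁻¹) * m := by group
    rw [h7]
    exact M.mul_mem (M.mul_mem (M.inv_mem hmM) h6) hmM

end Locals

end Cfsg.Agent.Lib.Lead
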