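import Mathlib

/-!
# Counting tuples with prescribed product (Cauchy-style rotation argument)

For a finite group `G` and a predicate `S` on `G`, `tupleCount S k h` is the number of lists
`[x₁, …, x_k]` of elements satisfying `S` with product `h`.

* `tupleCount_zero`, `tupleCount_succ` : the recursion (these are the coefficients of the `k`-th power of
  `∑_{S x} x` in the group algebra);
* `tupleCount_prime_pow_modEq` : for `k = p ^ m`, `tupleCount S k 1 ≡ #{w | S w ∧ w ^ k = 1} [MOD p]`
  (rotation of tuples; the fixed points are the constant tuples).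
-/

set_option autoImplicit false

namespace Cfsg.Agent.Lib.Lead

open Function

section

variable {G : Type*} [Group G]

/-- lists of length `k` of elements satisfying `S` with product `h` -/
def TupleSet (S : G → Prop) (k : ℕ) (h : G) : Type _ :=
  {l : List G // l.length = k ∧ l.prod = h ∧ ∀ x ∈ l, S x}

instance tupleSet_finite [Finite G] (S : G → Prop) (k : ℕ) (h : G) : Finite (TupleSet S k h) := by
  let _ := Fintype.ofFinite G
  let f : TupleSet S k h → List.Vector G k := fun w => ⟨w.1, w.2.1⟩
  have hinj : Injective f := by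
    intro w w' hww
    have h1 : (f w).1 = (f w').1 := congrArg (fun v : List.Vector G k => v.1) hww
    exact Subtype.ext h1
  have hfin : Finite (List.Vector G k) := inferInstance
  exact @Finite.of_injective _ (List.Vector G k) hfin f hinj

/-- the number of lists of length `k` of elements satisfying `S` with product `h` -/
noncomputable def tupleCount (S : G → Prop) (k : ℕ) (h : G) : ℕ := Nat.card (TupleSet S k h)

theorem tupleCount_zero [Finite G] (S : G → Prop) (h : G) [Decidable (h = 1)] :
    tupleCount S 0 h = if h = 1 then 1 else 0 := by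
  unfold tupleCount
  split_ifs with hh
  · subst hh
    rw [Nat.card_eq_one_iff_unique]
    refine ⟨⟨?_⟩, ⟨⟨[], rfl, List.prod_nil, by simp⟩⟩⟩
    rintro ⟨l, hl, -, -⟩ ⟨l', hl', -, -⟩
    apply Subtype.ext
    show l = l'
    rw [List.length_eq_zero_iff.mp hl, List.length_eq_zero_iff.mp hl']
  · rw [Nat.card_eq_zero]
    left
    refine ⟨?_⟩
    rintro ⟨l, hl, hp, -⟩
    rw [List.length_eq_zero_iff.mp hl, List.prod_nil] at hp
    exact hh hp.symm

/-- peeling off the first entry -/
def tupleSetSuccEquiv (S : G → Prop) (k : ℕ) (h : G) :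
    TupleSet S (k + 1) h ≃ Σ x : {x : G // S x}, TupleSet S k ((x : G)⁻¹ * h) where
  toFun w :=
    match w with
    | ⟨[], hw⟩ => absurd hw.1 (by simp)
    | ⟨x :: l, hw⟩ => ⟨⟨x, hw.2.2 x (List.mem_cons_self)⟩, ⟨l, by simpa using hw.1,
        eq_inv_mul_of_mul_eq (by simpa using hw.2.1),
        fun y hy => hw.2.2 y (List.mem_cons_of_mem _ hy)⟩⟩
  invFun q := ⟨(q.1 : G) :: q.2.1, by simp [q.2.2.1], by
      rw [List.prod_cons, q.2.2.2.1, mul_inv_cancel_left], by
      intro y hy
      rcases List.mem_cons.mp hy with rfl | hy'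
      · exact q.1.2
      · exact q.2.2.2.2 y hy'⟩
  left_inv w := by
    match w with
    | ⟨[], hw⟩ => exact absurd hw.1 (by simp)
    | ⟨x :: l, hw⟩ => rfl
  right_inv q := by
    obtain ⟨⟨x, hx⟩, ⟨l, hl⟩⟩ := q
    rfl

open scoped Classical in
theorem tupleCount_succ [Fintype G] (S : G → Prop) (k : ℕ) (h : G) :
    tupleCount S (k + 1) h = ∑ x : G, if S x then tupleCount S k (x⁻¹ * h) else 0 := by
  unfold tupleCount
  rw [Nat.card_congr (tupleSetSuccEquiv S k h), Nat.card_sigma]
  rw [← Finset.sum_filter,
    Finset.sum_subtype (Finset.univ.filter S) (p := S) (by simp)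
      (fun x => Nat.card (TupleSet S k (x⁻¹ * h)))]

/-- rotation of a tuple with product one -/
def tupleRotate (S : G → Prop) (k : ℕ) (j : ℕ) (w : TupleSet S k 1) : TupleSet S k 1 :=
  ⟨w.1.rotate j, (w.1.length_rotate j).trans w.2.1,
    List.prod_rotate_eq_one_of_prod_eq_one w.2.2.1 j, fun x hx => w.2.2.2 x (List.mem_rotate.mp hx)⟩

/-- rotation by one step, as an endomorphism -/
def tupleRotEnd (S : G → Prop) (k : ℕ) : Function.End (TupleSet S k 1) := tupleRotate S k 1

theorem tupleRotEnd_pow (S : G → Prop) (k : ℕ) (j : ℕ) (w : TupleSet S k 1) :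
    (tupleRotEnd S k ^ j) w = tupleRotate S k j w := by
  induction j generalizing w with
  | zero =>
    apply Subtype.ext
    show w.1 = w.1.rotate 0
    rw [List.rotate_zero]
  | succ j ih =>
    rw [pow_succ]
    show (tupleRotEnd S k ^ j) (tupleRotate S k 1 w) = _
    rw [ih]
    apply Subtype.ext
    show (w.1.rotate 1).rotate j = w.1.rotate (j + 1)
    rw [List.rotate_rotate, add_comm]

theorem tupleRotEnd_length (S : G → Prop) (k : ℕ) : tupleRotEnd S k ^ k = 1 := by
  funext w
  rw [tupleRotEnd_pow]
  apply Subtype.ext
  show w.1.rotate k = w.1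
  have := w.1.rotate_length
  rw [w.2.1] at this
  exact this

/-- the fixed points of the rotation are the constant tuples -/
def fixedEquiv (S : G → Prop) (k : ℕ) (hk : 0 < k) :
    (tupleRotEnd S k).fixedPoints ≃ {w : G // S w ∧ w ^ k = 1} where
  toFun v := ⟨v.1.1.head (by
      intro hnil
      have := v.1.2.1
      rw [hnil] at this
      simp at this
      omega), by
    have hfix : v.1.1.rotate 1 = v.1.1 := congrArg Subtype.val v.2
    obtain ⟨a, ha⟩ := (List.rotate_one_eq_self_iff_eq_replicate (α := G)).mp hfix
    have hlen := v.1.2.1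
    rw [hlen] at ha
    have hne : v.1.1 ≠ [] := by
      intro hnil
      rw [hnil] at hlen
      simp at hlen
      omega
    have hhead : v.1.1.head hne = a := by
      have : ∀ (l : List G) (hl : l ≠ []), l = List.replicate k a → l.head hl = a := by
        intro l hl hla
        subst hla
        simp
      exact this _ hne ha
    rw [hhead]
    refine ⟨v.1.2.2.2 a ?_, ?_⟩
    · rw [ha]
      exact List.mem_replicate.mpr ⟨hk.ne', rfl⟩
    · have := v.1.2.2.1
      rw [ha, List.prod_replicate] at this
      exact this⟩
  invFun w := ⟨⟨List.replicate k (w : G), by simp, by rw [List.prod_replicate]; exact w.2.2,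
      fun x hx => by rw [List.eq_of_mem_replicate hx]; exact w.2.1⟩, by
    apply Subtype.ext
    show (List.replicate k (w : G)).rotate 1 = List.replicate k (w : G)
    exact List.rotate_replicate _ _ _⟩
  left_inv v := by
    apply Subtype.ext
    apply Subtype.ext
    have hfix : v.1.1.rotate 1 = v.1.1 := congrArg Subtype.val v.2
    obtain ⟨a, ha⟩ := (List.rotate_one_eq_self_iff_eq_replicate (α := G)).mp hfix
    have hlen := v.1.2.1
    rw [hlen] at ha
    show List.replicate k (v.1.1.head _) = v.1.1
    have : ∀ (l : List G) (hl : l ≠ []), l = List.replicate k a → List.replicate k (l.head hl) = l := by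
      intro l hl hla
      subst hla
      simp
    exact this _ _ ha
  right_inv w := by
    apply Subtype.ext
    show (List.replicate k (w : G)).head _ = (w : G)
    simp

/-- **Rotation count.** For `k = p ^ m` the number of `k`-tuples of elements satisfying `S` with product
one is congruent mod `p` to the number of `w` with `S w` and `w ^ k = 1`. -/
theorem tupleCount_prime_pow_modEq [Finite G] (S : G → Prop) (p m : ℕ) [Fact p.Prime] :
    tupleCount S (p ^ m) 1 ≡ Nat.card {w : G // S w ∧ w ^ (p ^ m) = 1} [MOD p] := by
  classical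
  have hp : p.Prime := Fact.out
  let _ : Fintype (TupleSet S (p ^ m) 1) := Fintype.ofFinite _
  have h1 := Equiv.Perm.card_fixedPoints_modEq (p := p) (n := m)
    (f := tupleRotEnd S (p ^ m)) (tupleRotEnd_length S (p ^ m))
  unfold tupleCount
  rw [Nat.card_eq_fintype_card]
  refine h1.trans ?_
  rw [← Nat.card_eq_fintype_card, Nat.card_congr (fixedEquiv S (p ^ m) (pow_pos hp.pos m))]

end

end Cfsg.Agent.Lib.Lead
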