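import Mathlib
import Cfsg.Prelude.Def_Blocks
import Cfsg.Agent.Lib.Helper77.ClassAlg
import Cfsg.Agent.Lib.Helper76.PRegHeight
import Cfsg.Agent.Lib.Lead.ThirdMain
import Cfsg.Agent.Lib.Lead.RotationCount

/-!
# Külshammer's formula for the principal block idempotent

`e₀(g) ≡ N(g) / R (mod M)` for `p`-regular `g`, where `R` is the number of `p`-regular elements and
`N(g)` the number of factorisations `g = x y` with `x` a `p`-element and `y` `p`-regular.

Proof.  Let `s` be the sum of the `p`-regular elements.  `ω_χ(s) = 0` outside the principal block and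
`≡ R` inside, so `s = R e₀ + n` with `n` nilpotent modulo `M` and `e₀ n = n`; hence
`s ^ (p^m) ≡ R e₀` for large `m`.  The coefficient of `g` in `s ^ (p^m)` is a number of tuples, which the
rotation argument (`RotationCount`) computes modulo `p`.
-/

set_option autoImplicit false
set_option linter.unusedSectionVars false

namespace Cfsg.Agent.Lib.Lead

open Cfsg Cfsg.Agent.Lib.Helper77
open Cfsg.Agent.Lib.Helper16 hiding conv

section Algebra

variable {G : Type*} [Group G] [Fintype G] {M : Ideal Cfsg.AlgInt}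

theorem omegaF_finset_sum (χ : G → ℂ) {ι : Type*} (t : Finset ι) (f : ι → G → ℂ) :
    omegaF χ (∑ i ∈ t, f i) = ∑ i ∈ t, omegaF χ (f i) := by
  classical
  induction t using Finset.induction_on with
  | empty => simp [omegaF_zero]
  | insert i t hi ih => rw [Finset.sum_insert hi, Finset.sum_insert hi, omegaF_add, ih]

theorem omega_eq_omegaF (χ a : G → ℂ) : omega χ a = omegaF χ a := by
  unfold omega omegaF
  rw [Finset.sum_div]

theorem locIdl_finset_sum (hM : M.IsPrime) {ι : Type*} (t : Finset ι) (f : ι → G → ℂ)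
    (h : ∀ i ∈ t, LocIdl M (f i)) : LocIdl M (∑ i ∈ t, f i) := by
  classical
  induction t using Finset.induction_on with
  | empty => simpa using locIdl_zero (G := G) hM
  | insert i t hi ih =>
    rw [Finset.sum_insert hi]
    exact locIdl_add hM (h i (Finset.mem_insert_self i t))
      (ih (fun j hj => h j (Finset.mem_insert_of_mem hj)))

theorem isClassFunction_finset_sum {ι : Type*} (t : Finset ι) (f : ι → G → ℂ)
    (h : ∀ i ∈ t, Cfsg.IsClassFunction G (f i)) : Cfsg.IsClassFunction G (∑ i ∈ t, f i) := by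
  intro g x
  simp only [Finset.sum_apply]
  exact Finset.sum_congr rfl (fun i hi => h i hi g x)

theorem locIdl_cpow_of_le (hM : M.IsPrime) {n : G → ℂ} (hn : LocInt M n) {N : ℕ}
    (hN : LocIdl M (cpow n N)) {j : ℕ} (hj : N ≤ j) : LocIdl M (cpow n j) := by
  induction j, hj using Nat.le_induction with
  | base => exact hN
  | succ j _ ih =>
    rw [cpow_succ]
    exact locIdl_conv_left hM ih hn

/-- `a * a^k = a^k * a` -/
theorem conv_cpow_comm (a : G → ℂ) (k : ℕ) : conv a (cpow a k) = conv (cpow a k) a := by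
  induction k with
  | zero => rw [cpow_zero, conv_delta1_right, conv_delta1_left]
  | succ k ih => rw [cpow_succ, ← conv_assoc, ih]

theorem cpow_succ' (a : G → ℂ) (k : ℕ) : cpow a (k + 1) = conv a (cpow a k) := by
  rw [cpow_succ, conv_cpow_comm]

/-- **Structure of the powers of `s = r e + n`.**  If `e` is a class function with central character
values `0` or `1`, `s` is a class function whose central character vanishes where that of `e` does, and
`n = s - r e`, then `s ^ k = r ^ k e + ∑_{j < k} C(k, j+1) r^(k-j-1) n^(j+1)` for `k ≥ 1`. -/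
theorem cpow_eq_of_idem {s e : G → ℂ} (hs : Cfsg.IsClassFunction G s)
    (he : Cfsg.IsClassFunction G e) (r : ℂ)
    (hev : ∀ χ : Cfsg.IrrCharacter G, omegaF (χ : G → ℂ) e = 0 ∨ omegaF (χ : G → ℂ) e = 1)
    (hsv : ∀ χ : Cfsg.IrrCharacter G, omegaF (χ : G → ℂ) e = 0 → omegaF (χ : G → ℂ) s = 0)
    (k : ℕ) (hk : 0 < k) :
    cpow s k = r ^ k • e + ∑ j ∈ Finset.range k,
      (((k.choose (j + 1) : ℕ) : ℂ) * r ^ (k - (j + 1))) • cpow (s - r • e) (j + 1) := by
  have hn : Cfsg.IsClassFunction G (s - r • e) := isClassFunction_sub hs (isClassFunction_smul r he)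
  apply eq_of_omegaF_eq (isClassFunction_cpow hs k)
  · exact isClassFunction_add (isClassFunction_smul _ he)
      (isClassFunction_finset_sum _ _ (fun j _ => isClassFunction_smul _ (isClassFunction_cpow hn _)))
  intro χ
  rw [omegaF_cpow χ hs, omegaF_add, omegaF_smul', omegaF_finset_sum]
  have h1 : ∀ j ∈ Finset.range k,
      omegaF (χ : G → ℂ) ((((k.choose (j + 1) : ℕ) : ℂ) * r ^ (k - (j + 1))) • cpow (s - r • e) (j + 1)) =
      ((k.choose (j + 1) : ℕ) : ℂ) * r ^ (k - (j + 1)) *
        (omegaF (χ : G → ℂ) s - r * omegaF (χ : G → ℂ) e) ^ (j + 1) := by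
    intro j _
    rw [omegaF_smul', omegaF_cpow χ hn, omegaF_sub, omegaF_smul']
  rw [Finset.sum_congr rfl h1]
  rcases hev χ with h0 | h1'
  · rw [h0, hsv χ h0]
    simp only [mul_zero, sub_zero]
    rw [zero_pow hk.ne']
    simp
  · rw [h1']
    simp only [mul_one]
    set ω := omegaF (χ : G → ℂ) s with hω
    have hadd : ω ^ k = ((ω - r) + r) ^ k := by ring
    rw [hadd, add_pow, Finset.sum_range_succ']
    simp only [pow_zero, Nat.sub_zero, Nat.choose_zero_right, Nat.cast_one, mul_one, one_mul]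
    rw [add_comm]
    congr 1
    refine Finset.sum_congr rfl (fun j _ => ?_)
    ring

end Algebra


section Count

variable {G : Type*} [Group G] [Fintype G]

/-- right translation of a class function: `(s g⁻¹)^k = s^k g^(-k)` -/
theorem cpow_translate {a : G → ℂ} (ha : Cfsg.IsClassFunction G a) (g : G) (k : ℕ) (h : G) :
    cpow (fun x => a (x * g)) k h = cpow a k (h * g ^ k) := by
  induction k generalizing h with
  | zero => rw [cpow_zero, cpow_zero, pow_zero, mul_one]
  | succ k ih =>
    rw [cpow_succ, cpow_succ, conv_apply, conv_apply]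
    rw [← Fintype.sum_equiv (Equiv.mulRight (g ^ k))
      (fun x => cpow (fun x => a (x * g)) k x * a (x⁻¹ * h * g))
      (fun x' => cpow a k x' * a (x'⁻¹ * (h * g ^ (k + 1))))]
    intro x
    simp only [Equiv.coe_mulRight]
    rw [ih x]
    congr 1
    have e1 : (x * g ^ k)⁻¹ * (h * g ^ (k + 1)) = (g ^ k)⁻¹ * (x⁻¹ * h * g) * ((g ^ k)⁻¹)⁻¹ := by
      rw [pow_succ]; group
    rw [e1, ha]

/-- the powers of an indicator function count tuples -/
theorem cpow_indicator (S : G → Prop) [DecidablePred S] [DecidableEq G] (k : ℕ) (h : G) :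
    cpow (fun x => if S x then (1 : ℂ) else 0) k h = (tupleCount S k h : ℂ) := by
  induction k generalizing h with
  | zero =>
    rw [cpow_zero, delta1_apply, tupleCount_zero]
    split_ifs <;> simp
  | succ k ih =>
    rw [cpow_succ', conv_apply, tupleCount_succ]
    push_cast
    refine Finset.sum_congr rfl (fun x _ => ?_)
    rw [ih]
    split_ifs <;> simp

end Count

/-- **Külshammer's formula.** -/
theorem kulshammer {G : Type*} [Group G] [Finite G] (p : ℕ) [Fact p.Prime] (M : Ideal Cfsg.AlgInt)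
    (hM : Cfsg.IsPModular p M) (g : G) (hg : ¬ p ∣ orderOf g) :
    Cfsg.MemLocalIdeal M (Cfsg.blockCoeff (Cfsg.principalBlock M G) g -
      (Nat.card {xy : G × G // (∃ k : ℕ, orderOf xy.1 = p ^ k) ∧ ¬ p ∣ orderOf xy.2 ∧
        xy.1 * xy.2 = g} : ℂ) / (Nat.card {y : G // ¬ p ∣ orderOf y} : ℂ)) := by
  classical
  let _ := Fintype.ofFinite G
  have hp : p.Prime := Fact.out
  have hPr := isPrime_of_isPModular hM
  set B0 := Cfsg.principalBlock M G with hB0
  have hB : Cfsg.IsPBlock M B0 := isPBlock_principalBlock M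
  obtain ⟨heR, hecf, heω⟩ := blockCoeff_spec hPr B0 hB
  set e := Cfsg.blockCoeff B0 with he
  set s := regInd G p with hs
  set R := Nat.card {y : G // ¬ p ∣ orderOf y} with hR
  have hRp : ¬ p ∣ R := not_dvd_card_pRegular p
  have hR0 : R ≠ 0 := fun h0 => hRp (h0 ▸ dvd_zero p)
  have hscf : Cfsg.IsClassFunction G s := (isRClass_regInd hPr p).1
  have hsR : LocInt M s := (isRClass_regInd hPr p).2
  -- central character values of `s`
  have hs0 : ∀ χ : Cfsg.IrrCharacter G, χ ∉ B0 → omegaF (χ : G → ℂ) s = 0 := by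
    intro χ hχ
    rw [← omega_eq_omegaF]
    apply omega_regInd_of_not_sameBlock hM χ
    intro hsb
    exact hχ (sameBlock_symm hsb)
  have hs1 : ∀ χ : Cfsg.IrrCharacter G, χ ∈ B0 →
      Cfsg.MemLocalIdeal M (omegaF (χ : G → ℂ) s - (R : ℂ)) := by
    intro χ hχ
    have hsb : Cfsg.SameBlock M (χ : G → ℂ) (trivIrr G : G → ℂ) := sameBlock_symm hχ
    have h1 := memLocalIdeal_omegaF_sub hPr hsb hsR hscf
    rw [← omega_eq_omegaF (trivIrr G : G → ℂ), omega_regInd_triv] at h1
    exact h1
  -- the nilpotent part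
  set n := s - (R : ℂ) • e with hn
  have hncf : Cfsg.IsClassFunction G n := isClassFunction_sub hscf (isClassFunction_smul _ hecf)
  have hnR : LocInt M n := locInt_sub hPr hsR (locInt_smul hPr (memLocalRing_natCast hPr R) heR)
  have hnω : ∀ χ : Cfsg.IrrCharacter G, Cfsg.MemLocalIdeal M (omegaF (χ : G → ℂ) n) := by
    intro χ
    rw [hn, omegaF_sub, omegaF_smul', heω χ]
    by_cases hχ : χ ∈ B0
    · rw [if_pos hχ, mul_one]; exact hs1 χ hχ
    · rw [if_neg hχ, mul_zero, sub_zero, hs0 χ hχ]; exact memLocalIdeal_zero hPr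
  obtain ⟨N, hN⟩ := exists_cpow_locIdl hPr hncf hnR hnω
  -- the exponent
  set o := orderOf g with ho
  have hopos : 0 < o := orderOf_pos g
  have hcop : Nat.Coprime p o := (Nat.Prime.coprime_iff_not_dvd hp).mpr hg
  set m := Nat.totient o * (N + Nat.card G + 1) with hm
  have hmL : N + Nat.card G + 1 ≤ m := Nat.le_mul_of_pos_left _ (Nat.totient_pos.mpr hopos)
  set k := p ^ m with hk
  have hkpos : 0 < k := pow_pos hp.pos m
  have hmk : m < k := Nat.lt_pow_self hp.one_lt
  have hkN : N ≤ k := by omega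
  have hgk : g ^ k = g := by
    have h1 : k ≡ 1 [MOD o] := by
      rw [hk, hm, pow_mul]
      have := (Nat.ModEq.pow_totient hcop).pow (N + Nat.card G + 1)
      simpa using this
    have h2 := (pow_eq_pow_iff_modEq (x := g)).mpr h1
    rwa [pow_one] at h2
  -- structure of `s ^ k`
  have hev : ∀ χ : Cfsg.IrrCharacter G, omegaF (χ : G → ℂ) e = 0 ∨ omegaF (χ : G → ℂ) e = 1 := by
    intro χ
    rw [heω χ]
    by_cases hχ : χ ∈ B0
    · right; rw [if_pos hχ]
    · left; rw [if_neg hχ]
  have hsv : ∀ χ : Cfsg.IrrCharacter G, omegaF (χ : G → ℂ) e = 0 → omegaF (χ : G → ℂ) s = 0 := by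
    intro χ h0
    apply hs0
    intro hχ
    rw [heω χ, if_pos hχ] at h0
    exact one_ne_zero h0
  have hcp := cpow_eq_of_idem hscf hecf (R : ℂ) hev hsv k hkpos
  have hD : LocIdl M (cpow s k - (R : ℂ) • e) := by
    have e1 : cpow s k - (R : ℂ) • e = (((R ^ k - R : ℕ) : ℂ)) • e + ∑ j ∈ Finset.range k,
        (((k.choose (j + 1) : ℕ) : ℂ) * (R : ℂ) ^ (k - (j + 1))) • cpow n (j + 1) := by
      rw [hcp]
      have hle : R ≤ R ^ k := Nat.le_self_pow hkpos.ne' R
      rw [Nat.cast_sub hle, Nat.cast_pow, sub_smul]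
      abel
    rw [e1]
    apply locIdl_add hPr
    · apply locIdl_smul' hPr _ heR
      rw [memLocalIdeal_natCast_iff hM]
      have hle : R ≤ R ^ k := Nat.le_self_pow hkpos.ne' R
      rw [← Nat.modEq_iff_dvd' hle]
      have hz : ((R ^ k : ℕ) : ZMod p) = (R : ZMod p) := by
        rw [Nat.cast_pow, hk, ZMod.pow_card_pow]
      exact ((ZMod.natCast_eq_natCast_iff _ _ _).mp hz).symm
    · apply locIdl_finset_sum hPr
      intro j hj
      have hjk : j < k := Finset.mem_range.mp hj
      by_cases hlast : j + 1 = k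
      · apply locIdl_smul hPr
        · exact memLocalRing_mul hPr (memLocalRing_natCast hPr _)
            (memLocalRing_pow hPr (memLocalRing_natCast hPr R) _)
        · exact locIdl_cpow_of_le hPr hnR hN (by omega)
      · apply locIdl_smul' hPr _ (locInt_cpow hPr hnR _)
        apply memLocalIdeal_mul_right hPr
        · rw [memLocalIdeal_natCast_iff hM]
          exact hp.dvd_choose_pow (Nat.succ_ne_zero j) hlast
        · exact memLocalRing_pow hPr (memLocalRing_natCast hPr R) _
  have hDg : Cfsg.MemLocalIdeal M (cpow s k g - (R : ℂ) * e g) := hD g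
  -- the coefficient of `g` in `s ^ k` counts tuples
  set Sg : G → Prop := fun x => ¬ p ∣ orderOf (x * g) with hSg
  have hcoef : cpow s k g = (tupleCount Sg k 1 : ℂ) := by
    have h1 := cpow_translate hscf g k 1
    rw [one_mul, hgk] at h1
    have h2 : (fun x => s (x * g)) = fun x => if Sg x then (1 : ℂ) else 0 := by
      funext x
      simp only [hs, regInd, hSg]
      by_cases hx : p ∣ orderOf (x * g) <;> simp [hx]
    rw [h2, cpow_indicator] at h1
    exact h1.symm
  have hcount := tupleCount_prime_pow_modEq Sg p m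
  -- the fixed points are the factorisations
  have hbij : Nat.card {w : G // Sg w ∧ w ^ (p ^ m) = 1} =
      Nat.card {xy : G × G // (∃ k : ℕ, orderOf xy.1 = p ^ k) ∧ ¬ p ∣ orderOf xy.2 ∧
        xy.1 * xy.2 = g} := by
    apply Nat.card_congr
    refine
      { toFun := fun w => ⟨(w.1⁻¹, w.1 * g), ?_, w.2.1, by simp⟩
        invFun := fun q => ⟨q.1.1⁻¹, ?_, ?_⟩
        left_inv := fun w => by simp
        right_inv := fun q => ?_ }
    · obtain ⟨j, -, hj⟩ := (Nat.dvd_prime_pow hp).mp (orderOf_dvd_of_pow_eq_one w.2.2)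
      exact ⟨j, by rw [orderOf_inv]; exact hj⟩
    · show ¬ p ∣ orderOf (q.1.1⁻¹ * g)
      have h3 : q.1.1⁻¹ * g = q.1.2 := inv_mul_eq_of_eq_mul q.2.2.2.symm
      rw [h3]
      exact q.2.2.1
    · obtain ⟨j, hj⟩ := q.2.1
      have h4 : p ^ j ∣ Nat.card G := by rw [← hj]; exact orderOf_dvd_natCard _
      have h5 : p ^ j ≤ Nat.card G := Nat.le_of_dvd Nat.card_pos h4
      have h6 : j < p ^ j := Nat.lt_pow_self hp.one_lt
      have h7 : j ≤ m := by omega
      rw [inv_pow, inv_eq_one]
      apply orderOf_dvd_iff_pow_eq_one.mp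
      rw [hj]
      exact pow_dvd_pow p h7
    · obtain ⟨⟨x, y⟩, hq⟩ := q
      apply Subtype.ext
      have h3 : x⁻¹⁻¹ = x := inv_inv x
      have h4 : x⁻¹ * g = y := inv_mul_eq_of_eq_mul hq.2.2.symm
      simp [h4]
  rw [hbij] at hcount
  set Ng := Nat.card {xy : G × G // (∃ k : ℕ, orderOf xy.1 = p ^ k) ∧ ¬ p ∣ orderOf xy.2 ∧
        xy.1 * xy.2 = g} with hNg
  have hdiff : Cfsg.MemLocalIdeal M ((Ng : ℂ) - (tupleCount Sg k 1 : ℂ)) := by
    have h1 := Nat.modEq_iff_dvd.mp hcount
    have h2 := Cfsg.Agent.Lib.Helper76.memLocalIdeal_intCast_of_dvd hM _ h1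
    push_cast at h2
    exact h2
  -- assemble
  apply memLocalIdeal_of_natCast_mul hM hRp
  have hRc : (R : ℂ) ≠ 0 := by exact_mod_cast hR0
  have e2 : (R : ℂ) * (e g - (Ng : ℂ) / (R : ℂ)) =
      -((cpow s k g - (R : ℂ) * e g) + ((Ng : ℂ) - (tupleCount Sg k 1 : ℂ))) := by
    rw [hcoef]
    field_simp
    ring
  rw [e2]
  exact memLocalIdeal_neg (memLocalIdeal_add hPr hDg hdiff)

end Cfsg.Agent.Lib.Lead
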