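import Mathlib

/-!
Quadratic action tools for Thompson-type arguments:

* `ring_quadratic_commute`: the ring computation behind "an element of order prime to `p`
  normalised suitably by a quadratically acting `p`-element commutes with it" (`p` odd).
* `exists_quadratic`: Timmesfeld replacement in module form (a best offender contains a
  nontrivial quadratically acting element).
-/

set_option autoImplicit false

namespace Cfsg.Agent.Lib.Lead

section RingLemma

variable {R : Type*} [Ring R]

/-- Ring form of the quadratic action lemma. -/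
theorem ring_quadratic_commute (p m : ℕ) (hpR : (p : R) = 0) (hodd : Odd p)
    (hm : Nat.Coprime m p) (n ξ : R) (hξ : ξ ^ m = 1)
    (h1 : ξ * ((1 - n) * ξ * (1 + n)) = ((1 - n) * ξ * (1 + n)) * ξ)
    (h2 : ξ * ((1 - 2 * n) * ξ * (1 + 2 * n)) = ((1 - 2 * n) * ξ * (1 + 2 * n)) * ξ) :
    ξ * n = n * ξ := by
  set c : R := ξ * n - n * ξ with hc
  -- ξ commutes with 2c
  have e1 : (1 - n) * ξ * (1 + n) = ξ + c - n * ξ * n := by rw [hc]; noncomm_ring
  have e2 : (1 - 2 * n) * ξ * (1 + 2 * n) = ξ + 2 * c - 4 * (n * ξ * n) := by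
    rw [hc]; noncomm_ring
  rw [e1] at h1
  rw [e2] at h2
  have hX1 : Commute ξ (ξ + c - n * ξ * n) := h1
  have hX2 : Commute ξ (ξ + 2 * c - 4 * (n * ξ * n)) := h2
  have h3 : Commute ξ (c + c) := by
    have e : c + c = ((ξ + c - n * ξ * n) + (ξ + c - n * ξ * n) + (ξ + c - n * ξ * n) +
        (ξ + c - n * ξ * n)) - (ξ + 2 * c - 4 * (n * ξ * n)) - (ξ + ξ + ξ) := by noncomm_ring
    rw [e]
    exact ((((hX1.add_right hX1).add_right hX1).add_right hX1).sub_right hX2).sub_right
      (((Commute.refl ξ).add_right (Commute.refl ξ)).add_right (Commute.refl ξ))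
  -- hence with c, as p is odd
  have h4 : ξ * c = c * ξ := by
    obtain ⟨k, hk⟩ := hodd
    have hp' : ((2 * k + 1 : ℕ) : R) * c = 0 := by rw [← hk, hpR, zero_mul]
    push_cast at hp'
    have e : (2 * (k : R) + 1) * c = (k : R) * (c + c) + c := by noncomm_ring
    rw [e] at hp'
    have e' : c = -((k : R) * (c + c)) := eq_neg_of_add_eq_zero_right hp'
    have hcm : Commute ξ (-((k : R) * (c + c))) :=
      (((Nat.cast_commute k ξ).symm).mul_right h3).neg_right
    rw [← e'] at hcm
    exact hcm.eq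
  -- powers
  have hcomm : Commute ξ c := h4
  have h7 : ∀ j : ℕ, ξ ^ (j + 1) * n - n * ξ ^ (j + 1) = ((j + 1 : ℕ) : R) * (ξ ^ j * c) := by
    intro j
    induction j with
    | zero => simp [hc]
    | succ j ih =>
      have e : ξ ^ (j + 1 + 1) * n - n * ξ ^ (j + 1 + 1) =
          ξ * (ξ ^ (j + 1) * n - n * ξ ^ (j + 1)) + c * ξ ^ (j + 1) := by
        rw [hc, pow_succ' ξ (j + 1)]; noncomm_ring
      rw [e, ih, ← (hcomm.pow_left (j + 1)).eq]
      have e3 : ξ * (((j + 1 : ℕ) : R) * (ξ ^ j * c)) = ((j + 1 : ℕ) : R) * (ξ ^ (j + 1) * c) := by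
        rw [pow_succ' ξ j, ← mul_assoc, ← (Nat.cast_commute (j + 1) ξ).eq]
        noncomm_ring
      rw [e3]
      push_cast
      noncomm_ring
  rcases Nat.eq_zero_or_pos m with hm0 | hm0
  · -- then p = 1 and the ring is trivial
    subst hm0
    have hp1 : p = 1 := by simpa using hm
    subst hp1
    have h10 : (1 : R) = 0 := by simpa using hpR
    have : ∀ r : R, r = 0 := fun r => by rw [← mul_one r, h10, mul_zero]
    rw [this (ξ * n), this (n * ξ)]
  · obtain ⟨j, rfl⟩ : ∃ j, m = j + 1 := ⟨m - 1, by omega⟩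
    have h8 := h7 j
    rw [hξ, one_mul, mul_one, sub_self] at h8
    -- Bezout
    have h9 : ξ ^ j * c = 0 := by
      have hb : ((j + 1 : ℕ) : ℤ) * Nat.gcdA (j + 1) p + (p : ℤ) * Nat.gcdB (j + 1) p = 1 := by
        have := Nat.gcd_eq_gcd_ab (j + 1) p
        rw [hm] at this
        push_cast at this ⊢
        linarith
      have hb' : (((j + 1 : ℕ) : ℤ) : R) * ((Nat.gcdA (j + 1) p : ℤ) : R) +
          ((p : ℤ) : R) * ((Nat.gcdB (j + 1) p : ℤ) : R) = 1 := by
        have := congrArg (fun z : ℤ => (z : R)) hb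
        simpa using this
      have hp0 : ((p : ℤ) : R) = 0 := by simpa using hpR
      rw [hp0, zero_mul, add_zero] at hb'
      have hcz : ((Nat.gcdA (j + 1) p : ℤ) : R) * (((j + 1 : ℕ) : ℤ) : R) = 1 := by
        rw [← hb']
        exact ((Int.cast_commute (Nat.gcdA (j + 1) p) _).eq)
      calc ξ ^ j * c = 1 * (ξ ^ j * c) := by rw [one_mul]
        _ = ((Nat.gcdA (j + 1) p : ℤ) : R) * ((((j + 1 : ℕ) : ℤ) : R) * (ξ ^ j * c)) := by
            rw [← hcz, mul_assoc]
        _ = 0 := by
            have : (((j + 1 : ℕ) : ℤ) : R) = ((j + 1 : ℕ) : R) := by simp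
            rw [this, ← h8, mul_zero]
    have h11 : c = 0 := by
      have : c = ξ * (ξ ^ j * c) := by
        rw [← mul_assoc, ← pow_succ', hξ, one_mul]
      rw [this, h9, mul_zero]
    rw [hc] at h11
    exact sub_eq_zero.mp h11

end RingLemma

section Timmesfeld

variable {V : Type*} [AddCommGroup V] {A : Type*} [CommGroup A] (ρ : A →* AddMonoid.End V)

/-- Fixed points of a subgroup. -/
def fixedSub (B : Subgroup A) : AddSubgroup V where
  carrier := {v | ∀ b ∈ B, ρ b v = v}
  zero_mem' := by intro b _; exact map_zero (ρ b)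
  add_mem' := by
    intro x y hx hy b hb
    rw [map_add (ρ b), hx b hb, hy b hb]
  neg_mem' := by
    intro x hx b hb
    rw [map_neg (ρ b), hx b hb]

theorem mem_fixedSub {B : Subgroup A} {v : V} : v ∈ fixedSub ρ B ↔ ∀ b ∈ B, ρ b v = v := Iff.rfl

theorem rho_comm (a b : A) (v : V) : ρ a (ρ b v) = ρ b (ρ a v) := by
  have h : ρ a * ρ b = ρ b * ρ a := by rw [← map_mul, ← map_mul, mul_comm]
  exact congrArg (fun f : AddMonoid.End V => f v) h

theorem rho_inv_apply (a : A) (v : V) : ρ a⁻¹ (ρ a v) = v := by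
  have h : ρ a⁻¹ * ρ a = 1 := by rw [← map_mul, inv_mul_cancel, map_one]
  exact congrArg (fun f : AddMonoid.End V => f v) h

theorem rho_mul_apply (a b : A) (v : V) : ρ (a * b) v = ρ a (ρ b v) := by
  rw [map_mul]; rfl

/-- Commuting unipotent operators: outside an invariant subgroup there is a vector moved
into it by all of them. -/
theorem exists_almost_fixed (p : ℕ) [Fact p.Prime] (hpV : ∀ v : V, p • v = 0)
    (hpA : ∀ a : A, a ^ p = 1) (N : AddSubgroup V) (hN : ∀ a : A, ∀ v ∈ N, ρ a v ∈ N)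
    (s : Finset A) (w₀ : V) (hw₀ : w₀ ∉ N) :
    ∃ w, w ∉ N ∧ ∀ b ∈ s, ρ b w - w ∈ N := by
  classical
  have hnt : Nontrivial (AddMonoid.End V) := by
    refine ⟨⟨1, 0, fun h => hw₀ ?_⟩⟩
    have := congrArg (fun f : AddMonoid.End V => f w₀) h
    simp only [AddMonoid.End.coe_one, id_eq] at this
    rw [this]
    exact N.zero_mem
  have hp0 : ((p : ℕ) : AddMonoid.End V) = 0 := by
    ext v
    rw [AddMonoid.End.natCast_apply, hpV]
    rfl
  have hchar : CharP (AddMonoid.End V) p := (CharP.charP_iff_prime_eq_zero Fact.out).mpr hp0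
  induction s using Finset.induction_on with
  | empty => exact ⟨w₀, hw₀, by simp⟩
  | insert a₀ s _ ih =>
    obtain ⟨w, hw, hws⟩ := ih
    set δ : AddMonoid.End V := ρ a₀ - 1 with hδ
    have hδp : δ ^ p = 0 := by
      rw [hδ, sub_pow_char_of_commute p (Commute.one_right (ρ a₀)), ← map_pow, hpA,
        map_one, one_pow, sub_self]
    have hδN : ∀ k : ℕ, ∀ v ∈ N, (δ ^ k) v ∈ N := by
      intro k
      induction k with
      | zero => intro v hv; simpa using hv
      | succ k ih2 =>
        intro v hv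
        rw [pow_succ']
        have : (δ * δ ^ k) v = ρ a₀ ((δ ^ k) v) - (δ ^ k) v := rfl
        rw [this]
        exact N.sub_mem (hN a₀ _ (ih2 v hv)) (ih2 v hv)
    have hex : ∃ j, (δ ^ j) w ∈ N := ⟨p, by rw [hδp]; exact N.zero_mem⟩
    have hj0 : Nat.find hex ≠ 0 := by
      intro h0
      have := Nat.find_spec hex
      rw [h0] at this
      exact hw (by simpa using this)
    obtain ⟨k, hk⟩ := Nat.exists_eq_succ_of_ne_zero hj0
    have hk1 : (δ ^ k) w ∉ N := Nat.find_min hex (by omega)
    have hk2 : (δ ^ (k + 1)) w ∈ N := by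
      have := Nat.find_spec hex
      rwa [hk] at this
    refine ⟨(δ ^ k) w, hk1, ?_⟩
    intro b hb
    rcases Finset.mem_insert.mp hb with rfl | hb
    · have : ρ b ((δ ^ k) w) - (δ ^ k) w = (δ ^ (k + 1)) w := by
        rw [pow_succ']; rfl
      rw [this]; exact hk2
    · have hcomm : Commute (ρ b - 1) δ := by
        have h1 : Commute (ρ b) (ρ a₀) := by
          show ρ b * ρ a₀ = ρ a₀ * ρ b
          rw [← map_mul, ← map_mul, mul_comm]
        exact (h1.sub_left (Commute.one_left _)).sub_right (Commute.one_right _)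
      have h2 : (ρ b - 1) * δ ^ k = δ ^ k * (ρ b - 1) := (hcomm.pow_right k).eq
      have h3 : ρ b ((δ ^ k) w) - (δ ^ k) w = (δ ^ k) (ρ b w - w) := by
        have := congrArg (fun f : AddMonoid.End V => f w) h2
        exact this
      rw [h3]
      exact hδN k _ (hws b hb)

/-- **Timmesfeld replacement**, module form: a subgroup `B` maximising `|B'| * |C_V(B')|` among
its subgroups and acting nontrivially contains an element acting nontrivially and
quadratically. -/
theorem exists_quadratic [Finite V] [Finite A] (p : ℕ) [Fact p.Prime] (hpV : ∀ v : V, p • v = 0)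
    (hpA : ∀ a : A, a ^ p = 1) :
    ∀ (n : ℕ) (B : Subgroup A), Nat.card B ≤ n →
      (∀ B' : Subgroup A, B' ≤ B →
        Nat.card B' * Nat.card (fixedSub ρ B') ≤ Nat.card B * Nat.card (fixedSub ρ B)) →
      (∃ b ∈ B, ∃ v, ρ b v ≠ v) →
      ∃ b ∈ B, (∃ v, ρ b v ≠ v) ∧ ∀ v, ρ b (ρ b v - v) = ρ b v - v := by
  classical
  intro n
  induction n with
  | zero =>
    intro B hB
    have : 0 < Nat.card B := Nat.card_pos
    omega
  | succ n ih =>
    intro B hB hmax hnt
    set C := fixedSub ρ B with hC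
    let N : AddSubgroup V :=
      { carrier := {v | ∀ b ∈ B, ρ b v - v ∈ C}
        zero_mem' := by
          intro b _
          rw [map_zero, sub_zero]; exact C.zero_mem
        add_mem' := by
          intro x y hx hy b hb
          have : ρ b (x + y) - (x + y) = (ρ b x - x) + (ρ b y - y) := by rw [map_add]; abel
          rw [this]; exact C.add_mem (hx b hb) (hy b hb)
        neg_mem' := by
          intro x hx b hb
          have : ρ b (-x) - (-x) = -(ρ b x - x) := by rw [map_neg]; abel
          rw [this]; exact C.neg_mem (hx b hb) }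
    have hCfix : ∀ c ∈ C, ∀ b ∈ B, ρ b c = c := fun c hc b hb => hc b hb
    have hCinv : ∀ a : A, ∀ c ∈ C, ρ a c ∈ C := by
      intro a c hc b hb
      rw [rho_comm ρ b a c, hc b hb]
    have hNinv : ∀ a : A, ∀ v ∈ N, ρ a v ∈ N := by
      intro a v hv b hb
      have : ρ b (ρ a v) - ρ a v = ρ a (ρ b v - v) := by rw [rho_comm ρ b a v, map_sub]
      rw [this]; exact hCinv a _ (hv b hb)
    have hCN : C ≤ N := by
      intro c hc b hb
      rw [hCfix c hc b hb, sub_self]; exact C.zero_mem
    by_cases hNtop : N = ⊤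
    · obtain ⟨b, hb, hv⟩ := hnt
      refine ⟨b, hb, hv, fun v => ?_⟩
      have : v ∈ N := by rw [hNtop]; trivial
      exact hCfix _ (this b hb) b hb
    · obtain ⟨w₀, hw₀⟩ : ∃ w₀, w₀ ∉ N := by
        by_contra hcon
        push Not at hcon
        exact hNtop (eq_top_iff.mpr fun v _ => hcon v)
      have : Fintype A := Fintype.ofFinite A
      obtain ⟨w, hw, hwA⟩ := exists_almost_fixed ρ p hpV hpA N hNinv Finset.univ w₀ hw₀
      have hwA' : ∀ a : A, ρ a w - w ∈ N := fun a => hwA a (Finset.mem_univ a)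
      let Bw : Subgroup A :=
        { carrier := {b | b ∈ B ∧ ρ b w - w ∈ C}
          one_mem' := by
            refine ⟨B.one_mem, ?_⟩
            rw [map_one]
            show w - w ∈ C
            rw [sub_self]; exact C.zero_mem
          mul_mem' := by
            rintro b b' ⟨hb, hbw⟩ ⟨hb', hbw'⟩
            refine ⟨B.mul_mem hb hb', ?_⟩
            have h := hCfix _ hbw' b hb
            rw [map_sub] at h
            have h2 : ρ b (ρ b' w) = ρ b' w - w + ρ b w := by rw [← h]; abel
            have : ρ (b * b') w - w = (ρ b' w - w) + (ρ b w - w) := by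
              rw [rho_mul_apply, h2]; abel
            rw [this]; exact C.add_mem hbw' hbw
          inv_mem' := by
            rintro b ⟨hb, hbw⟩
            refine ⟨B.inv_mem hb, ?_⟩
            have h := hCfix _ hbw b⁻¹ (B.inv_mem hb)
            rw [map_sub, rho_inv_apply] at h
            have : ρ b⁻¹ w - w = -(ρ b w - w) := by rw [← h]; abel
            rw [this]; exact C.neg_mem hbw }
      have hBwB : Bw ≤ B := fun b hb => hb.1
      set F := fixedSub ρ Bw with hF
      have hCF : C ≤ F := fun c hc b hb => hc b (hBwB hb)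
      have hFmem : ∀ b ∈ B, ρ b w - w ∈ F := by
        intro b hb b' hb'
        have h := hCfix _ hb'.2 b hb
        rw [map_sub] at h
        have h2 : ρ b (ρ b' w) = ρ b' w - w + ρ b w := by rw [← h]; abel
        rw [map_sub, rho_comm ρ b' b w, h2]; abel
      let f : B → F ⧸ (C.addSubgroupOf F) := fun b =>
        QuotientAddGroup.mk ⟨ρ (b : A) w - w, hFmem b b.2⟩
      have hfib : ∀ b b' : B, f b = f b' → ((b : A) * (b' : A)⁻¹) ∈ Bw := by
        intro b b' h
        refine ⟨B.mul_mem b.2 (B.inv_mem b'.2), ?_⟩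
        have h1 := QuotientAddGroup.eq.mp h
        rw [AddSubgroup.mem_addSubgroupOf] at h1
        have h2 : ρ (b' : A) w - ρ (b : A) w ∈ C := by
          have : ((-(⟨ρ (b : A) w - w, hFmem b b.2⟩ : F) + ⟨ρ (b' : A) w - w, hFmem b' b'.2⟩ : F) : V) =
              ρ (b' : A) w - ρ (b : A) w := by
            push_cast; abel
          rw [← this]; exact h1
        have h3 := hCfix _ h2 (b' : A)⁻¹ (B.inv_mem b'.2)
        rw [map_sub, rho_inv_apply] at h3
        have : ρ ((b : A) * (b' : A)⁻¹) w - w = -(ρ (b' : A) w - ρ (b : A) w) := by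
          rw [mul_comm, rho_mul_apply, ← h3]; abel
        rw [this]; exact C.neg_mem h2
      let rep : F ⧸ (C.addSubgroupOf F) → B := fun y =>
        if h : ∃ b, f b = y then Classical.choose h else 1
      have hrep : ∀ b : B, f (rep (f b)) = f b := by
        intro b
        have h : ∃ b', f b' = f b := ⟨b, rfl⟩
        show f (if h : ∃ b', f b' = f b then Classical.choose h else 1) = f b
        rw [dif_pos h]
        exact Classical.choose_spec h
      let g : B → Bw × (F ⧸ (C.addSubgroupOf F)) := fun b =>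
        (⟨(b : A) * ((rep (f b) : B) : A)⁻¹, hfib b (rep (f b)) (hrep b).symm⟩, f b)
      have hg : Function.Injective g := by
        intro b₁ b₂ h
        have h1 : f b₁ = f b₂ := congrArg Prod.snd h
        have h2 : (b₁ : A) * ((rep (f b₁) : B) : A)⁻¹ = (b₂ : A) * ((rep (f b₂) : B) : A)⁻¹ :=
          congrArg (fun x : Bw × (F ⧸ (C.addSubgroupOf F)) => (x.1 : A)) h
        rw [h1] at h2
        exact Subtype.ext (mul_right_cancel h2)
      have hcardQ : Nat.card F = Nat.card (F ⧸ (C.addSubgroupOf F)) * Nat.card C := by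
        rw [AddSubgroup.card_eq_card_quotient_mul_card_addSubgroup (C.addSubgroupOf F)]
        congr 1
        exact Nat.card_congr (AddSubgroup.addSubgroupOfEquivOfLe hCF).toEquiv
      have hle : Nat.card B ≤ Nat.card Bw * Nat.card (F ⧸ (C.addSubgroupOf F)) := by
        rw [← Nat.card_prod]
        exact Nat.card_le_card_of_injective g hg
      have hCpos : 0 < Nat.card C := Nat.card_pos
      have hm2 := hmax Bw hBwB
      rw [hcardQ, ← mul_assoc] at hm2
      have heq : Nat.card Bw * Nat.card (F ⧸ (C.addSubgroupOf F)) = Nat.card B :=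
        le_antisymm (Nat.le_of_mul_le_mul_right hm2 hCpos) hle
      have hm1 : Nat.card B * Nat.card C ≤ Nat.card Bw * Nat.card F := by
        rw [hcardQ, ← mul_assoc, heq]
      have hgb : Function.Bijective g :=
        hg.bijective_of_nat_card_le (by rw [Nat.card_prod, heq])
      have hfsurj : Function.Surjective f := by
        intro y
        obtain ⟨b, hb⟩ := hgb.2 (1, y)
        exact ⟨b, congrArg Prod.snd hb⟩
      have hne : Bw ≠ B := by
        intro h
        apply hw
        intro b hb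
        have : b ∈ Bw := by rw [h]; exact hb
        exact this.2
      have hlt : Nat.card Bw < Nat.card B := by
        refine lt_of_le_of_ne (Subgroup.card_le_of_le hBwB) (fun h => hne ?_)
        exact Subgroup.eq_of_le_of_card_ge hBwB h.ge
      have hntw : ∃ b ∈ Bw, ∃ v, ρ b v ≠ v := by
        by_contra hcon
        push Not at hcon
        have hw₀F : w₀ ∈ F := fun b hb => hcon b hb w₀
        obtain ⟨b, hb⟩ := hfsurj (QuotientAddGroup.mk ⟨w₀, hw₀F⟩)
        have h1 := QuotientAddGroup.eq.mp hb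
        rw [AddSubgroup.mem_addSubgroupOf] at h1
        have h2 : w₀ = (ρ (b : A) w - w) + (-(ρ (b : A) w - w) + w₀) := by abel
        have h3 : ((-(⟨ρ (b : A) w - w, hFmem b b.2⟩ : F) + ⟨w₀, hw₀F⟩ : F) : V) =
            -(ρ (b : A) w - w) + w₀ := by push_cast; rfl
        rw [h3] at h1
        apply hw₀
        rw [h2]
        exact N.add_mem (hwA' b) (hCN h1)
      obtain ⟨b, hb, hbv, hbq⟩ := ih Bw (by omega)
        (fun B' hB' => le_trans (hmax B' (le_trans hB' hBwB)) hm1) hntw
      exact ⟨b, hBwB hb, hbv, hbq⟩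

end Timmesfeld

section GroupForm

open scoped IsMulCommutative commutatorElement

variable {G : Type*} [Group G]

/-- Conjugation action of `G` on a normal abelian subgroup, written additively. -/
noncomputable def conjEnd (V : Subgroup G) [V.Normal] [IsMulCommutative V] :
    G →* AddMonoid.End (Additive V) where
  toFun g := MonoidHom.toAdditive ((MulAut.conjNormal g : MulAut V).toMonoidHom)
  map_one' := by
    apply AddMonoidHom.ext
    intro v
    show Additive.ofMul ((MulAut.conjNormal (1 : G) : MulAut V) (Additive.toMul v)) = v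
    rw [map_one]; rfl
  map_mul' := by
    intro g h
    apply AddMonoidHom.ext
    intro v
    show Additive.ofMul ((MulAut.conjNormal (g * h) : MulAut V) (Additive.toMul v)) = _
    rw [map_mul]; rfl

theorem conjEnd_apply (V : Subgroup G) [hV : V.Normal] [IsMulCommutative V] (g : G) (v : V) :
    conjEnd V g (Additive.ofMul v) =
      Additive.ofMul (⟨g * v * g⁻¹, hV.conj_mem v v.2 g⟩ : V) := by
  show Additive.ofMul ((MulAut.conjNormal g : MulAut V) v) = _
  congr 1

theorem conjEnd_sub_apply (V : Subgroup G) [hV : V.Normal] [IsMulCommutative V] (g : G) (v : V) :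
    conjEnd V g (Additive.ofMul v) - Additive.ofMul v =
      Additive.ofMul (⟨g * v * g⁻¹ * (v : G)⁻¹,
        V.mul_mem (hV.conj_mem v v.2 g) (V.inv_mem v.2)⟩ : V) := by
  rw [conjEnd_apply, ← ofMul_div]
  congr 1
  exact Subtype.ext (by simp [div_eq_mul_inv])

theorem conjEnd_eq_one_iff (V : Subgroup G) [hV : V.Normal] [IsMulCommutative V] (g : G) :
    conjEnd V g = 1 ↔ g ∈ Subgroup.centralizer (V : Set G) := by
  rw [Subgroup.mem_centralizer_iff]
  constructor
  · intro h v hv
    have h1 := congrArg (fun f : AddMonoid.End (Additive V) => f (Additive.ofMul ⟨v, hv⟩)) h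
    simp only [conjEnd_apply, AddMonoid.End.coe_one, id_eq] at h1
    have h2 : g * v * g⁻¹ = v :=
      congrArg (fun x : Additive V => ((Additive.toMul x : V) : G)) h1
    calc v * g = (g * v * g⁻¹) * g := by rw [h2]
      _ = g * v := by group
  · intro h
    ext x : 1
    obtain ⟨v, rfl⟩ : ∃ v : V, Additive.ofMul v = x := ⟨Additive.toMul x, rfl⟩
    rw [conjEnd_apply]
    show Additive.ofMul _ = Additive.ofMul v
    congr 1
    apply Subtype.ext
    show g * v * g⁻¹ = v
    rw [← h v v.2]; group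

/-- **Quadratic action lemma** (`p` odd): if `a` acts quadratically on the normal elementary
abelian `p`-subgroup `V`, `x` has order prime to `p`, and `x` commutes modulo `C_G(V)` with
its conjugates under `a` and `a²`, then `[x, a]` centralizes `V`. -/
theorem quadratic_commutator_mem_centralizer (V : Subgroup G) [V.Normal] [IsMulCommutative V]
    (p : ℕ) (hodd : Odd p) (hVp : ∀ v ∈ V, v ^ p = 1) (a x : G) (m : ℕ)
    (hquad : ∀ v ∈ V, a * (a * v * a⁻¹ * v⁻¹) * a⁻¹ = a * v * a⁻¹ * v⁻¹)
    (hxm : x ^ m = 1) (hm : m.Coprime p)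
    (hc1 : ⁅x, a⁻¹ * x * a⁆ ∈ Subgroup.centralizer (V : Set G))
    (hc2 : ⁅x, a⁻¹ * a⁻¹ * x * a * a⁆ ∈ Subgroup.centralizer (V : Set G)) :
    ⁅x, a⁆ ∈ Subgroup.centralizer (V : Set G) := by
  set ρ := conjEnd V with hρ
  set n : AddMonoid.End (Additive V) := ρ a - 1 with hn
  have ha : ρ a = 1 + n := by rw [hn]; abel
  have hnn : n * n = 0 := by
    ext w : 1
    obtain ⟨v, rfl⟩ : ∃ v : V, Additive.ofMul v = w := ⟨Additive.toMul w, rfl⟩
    show ρ a (ρ a (Additive.ofMul v) - Additive.ofMul v) - (ρ a (Additive.ofMul v) - Additive.ofMul v) = 0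
    rw [hρ, conjEnd_sub_apply, conjEnd_apply, sub_eq_zero]
    congr 1
    exact Subtype.ext (hquad v v.2)
  have hp0 : ((p : ℕ) : AddMonoid.End (Additive V)) = 0 := by
    ext w : 1
    obtain ⟨v, rfl⟩ : ∃ v : V, Additive.ofMul v = w := ⟨Additive.toMul w, rfl⟩
    rw [AddMonoid.End.natCast_apply, ← ofMul_pow]
    have : v ^ p = 1 := Subtype.ext (by simpa using hVp v v.2)
    rw [this]; rfl
  have hξm : ρ x ^ m = 1 := by rw [← map_pow, hxm, map_one]
  have hinv : ρ a⁻¹ = 1 - n := by
    have h1 : ρ a⁻¹ * ρ a = 1 := by rw [← map_mul, inv_mul_cancel, map_one]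
    have h2 : (1 + n) * (1 - n) = 1 := by
      have : (1 + n) * (1 - n) = 1 - n * n := by
        rw [mul_sub, mul_one, add_mul, one_mul]; abel
      rw [this, hnn, sub_zero]
    calc ρ a⁻¹ = ρ a⁻¹ * ((1 + n) * (1 - n)) := by rw [h2, mul_one]
      _ = (ρ a⁻¹ * ρ a) * (1 - n) := by rw [ha, mul_assoc]
      _ = 1 - n := by rw [h1, one_mul]
  have hcomm : ∀ y : G, ⁅x, y⁆ ∈ Subgroup.centralizer (V : Set G) → ρ x * ρ y = ρ y * ρ x := by
    intro y hy
    have h1 : ρ ⁅x, y⁆ = 1 := (conjEnd_eq_one_iff V _).mpr hy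
    have h2 : x * y = ⁅x, y⁆ * (y * x) := by rw [commutatorElement_def]; group
    rw [← map_mul, h2, map_mul, h1, one_mul, map_mul]
  have e1 : ρ (a⁻¹ * x * a) = (1 - n) * ρ x * (1 + n) := by
    rw [map_mul, map_mul, hinv, ha]
  have s1 : (1 - n) * (1 - n) = 1 - 2 * n := by
    have : (1 - n) * (1 - n) = 1 - 2 * n + n * n := by
      rw [mul_sub, mul_one, sub_mul, one_mul, two_mul]; abel
    rw [this, hnn, add_zero]
  have s2 : (1 + n) * (1 + n) = 1 + 2 * n := by
    have : (1 + n) * (1 + n) = 1 + 2 * n + n * n := by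
      rw [mul_add, mul_one, add_mul, one_mul, two_mul]; abel
    rw [this, hnn, add_zero]
  have e2 : ρ (a⁻¹ * a⁻¹ * x * a * a) = (1 - 2 * n) * ρ x * (1 + 2 * n) := by
    rw [map_mul, map_mul, map_mul, map_mul, hinv, ha, ← s1, ← s2]
    simp only [mul_assoc]
  have h1 := hcomm _ hc1
  have h2 := hcomm _ hc2
  rw [e1] at h1
  rw [e2] at h2
  have h3 := ring_quadratic_commute p m hp0 hodd hm n (ρ x) hξm h1 h2
  have h4 : ρ x * ρ a = ρ a * ρ x := by
    rw [ha, mul_add, add_mul, h3, mul_one, one_mul]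
  apply (conjEnd_eq_one_iff V _).mp
  have h5 : ⁅x, a⁆ = (x * a) * (a * x)⁻¹ := by rw [commutatorElement_def]; group
  rw [h5, map_mul, map_mul, h4, ← map_mul, ← map_mul, mul_inv_cancel, map_one]

/-- **Timmesfeld / Thompson replacement**, group form: if `A` is an elementary abelian
`p`-subgroup of maximal order inside `P`, `V ≤ P` is an elementary abelian `p`-subgroup normal
in `G`, and `A` does not centralize `V`, then some `a ∈ A` does not centralize `V` but acts
quadratically on it: `[V, a, a] = 1`. -/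
theorem exists_quadratic_elt [Finite G] (p : ℕ) [Fact p.Prime] (P V A : Subgroup G)
    [hVn : V.Normal] (hVP : V ≤ P) (hVc : IsMulCommutative V) (hVp : ∀ v ∈ V, v ^ p = 1)
    (hAP : A ≤ P) (hAc : IsMulCommutative A) (hAp : ∀ a ∈ A, a ^ p = 1)
    (hmax : ∀ B : Subgroup G, B ≤ P → IsMulCommutative B → (∀ b ∈ B, b ^ p = 1) →
      Nat.card B ≤ Nat.card A)
    (hAV : ¬ A ≤ Subgroup.centralizer (V : Set G)) :
    ∃ a ∈ A, a ∉ Subgroup.centralizer (V : Set G) ∧
      ∀ v ∈ V, a * (a * v * a⁻¹ * v⁻¹) * a⁻¹ = a * v * a⁻¹ * v⁻¹ := by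
  classical
  have := hVc
  have := hAc
  let ρ : A →* AddMonoid.End (Additive V) := (conjEnd V).comp A.subtype
  have hρ : ∀ (b : A) (v : V), ρ b (Additive.ofMul v) =
      Additive.ofMul (⟨(b : G) * v * (b : G)⁻¹, hVn.conj_mem v v.2 b⟩ : V) :=
    fun b v => conjEnd_apply V (b : G) v
  have hpV : ∀ w : Additive V, p • w = 0 := by
    intro w
    obtain ⟨v, rfl⟩ : ∃ v : V, Additive.ofMul v = w := ⟨Additive.toMul w, rfl⟩
    rw [← ofMul_pow]
    have : v ^ p = 1 := Subtype.ext (by simpa using hVp v v.2)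
    rw [this]; rfl
  have hpA : ∀ a : A, a ^ p = 1 := fun a => Subtype.ext (by simpa using hAp a a.2)
  have hAcomm : ∀ a ∈ A, ∀ b ∈ A, a * b = b * a := by
    intro a ha b hb
    exact congrArg Subtype.val (mul_comm (⟨a, ha⟩ : A) ⟨b, hb⟩)
  have hVcomm : ∀ u ∈ V, ∀ v ∈ V, u * v = v * u := by
    intro u hu v hv
    exact congrArg Subtype.val (mul_comm (⟨u, hu⟩ : V) ⟨v, hv⟩)
  have hfix : ∀ (B' : Subgroup A) (k : V),
      Additive.ofMul k ∈ fixedSub ρ B' ↔ ∀ b ∈ B', (b : G) * k = k * b := by
    intro B' k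
    rw [mem_fixedSub]
    refine forall₂_congr (fun b _ => ?_)
    rw [hρ]
    constructor
    · intro h
      have h2 : (b : G) * k * (b : G)⁻¹ = k :=
        congrArg (fun x : Additive V => ((Additive.toMul x : V) : G)) h
      calc (b : G) * k = ((b : G) * k * (b : G)⁻¹) * b := by group
        _ = k * b := by rw [h2]
    · intro h
      congr 1
      apply Subtype.ext
      show (b : G) * k * (b : G)⁻¹ = k
      rw [h]; group
  have hstar : ∀ B' : Subgroup A, B' ≤ ⊤ →
      Nat.card B' * Nat.card (fixedSub ρ B') ≤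
        Nat.card (⊤ : Subgroup A) * Nat.card (fixedSub ρ (⊤ : Subgroup A)) := by
    intro B' _
    let T : Subgroup G :=
      { carrier := {g | ∃ b : A, b ∈ B' ∧ ∃ k : V, Additive.ofMul k ∈ fixedSub ρ B' ∧
          g = (b : G) * k}
        one_mem' := ⟨1, B'.one_mem, 1, (fixedSub ρ B').zero_mem, by simp⟩
        mul_mem' := by
          rintro _ _ ⟨b, hb, k, hk, rfl⟩ ⟨b', hb', k', hk', rfl⟩
          refine ⟨b * b', B'.mul_mem hb hb', k * k', (fixedSub ρ B').add_mem hk hk', ?_⟩
          have h1 := (hfix B' k).mp hk b' hb'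
          push_cast
          calc (b : G) * k * ((b' : G) * k') = (b : G) * ((k : G) * b') * k' := by group
            _ = (b : G) * ((b' : G) * k) * k' := by rw [h1]
            _ = (b : G) * b' * ((k : G) * k') := by group
        inv_mem' := by
          rintro _ ⟨b, hb, k, hk, rfl⟩
          refine ⟨b⁻¹, B'.inv_mem hb, k⁻¹, (fixedSub ρ B').neg_mem hk, ?_⟩
          have h1 := (hfix B' k).mp hk b hb
          push_cast
          calc ((b : G) * k)⁻¹ = ((k : G) * b)⁻¹ := by rw [h1]
            _ = (b : G)⁻¹ * (k : G)⁻¹ := by group }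
    have hTP : T ≤ P := by
      rintro _ ⟨b, _, k, _, rfl⟩
      exact P.mul_mem (hAP b.2) (hVP k.2)
    have hTcomm : ∀ x ∈ T, ∀ y ∈ T, x * y = y * x := by
      rintro _ ⟨b, hb, k, hk, rfl⟩ _ ⟨b', hb', k', hk', rfl⟩
      have h1 := (hfix B' k).mp hk b' hb'
      have h2 := (hfix B' k').mp hk' b hb
      have h3 := hAcomm b b.2 b' b'.2
      have h4 := hVcomm k k.2 k' k'.2
      calc (b : G) * k * ((b' : G) * k') = (b : G) * ((k : G) * b') * k' := by group
        _ = (b : G) * ((b' : G) * k) * k' := by rw [h1]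
        _ = ((b : G) * b') * ((k : G) * k') := by group
        _ = ((b' : G) * b) * ((k' : G) * k) := by rw [h3, h4]
        _ = (b' : G) * ((b : G) * k') * k := by group
        _ = (b' : G) * ((k' : G) * b) * k := by rw [h2]
        _ = (b' : G) * k' * ((b : G) * k) := by group
    have hTc : IsMulCommutative T :=
      isMulCommutative_iff.mpr (fun x y => Subtype.ext (hTcomm x x.2 y y.2))
    have hTp : ∀ t ∈ T, t ^ p = 1 := by
      rintro _ ⟨b, hb, k, hk, rfl⟩
      have h1 : Commute (b : G) (k : G) := (hfix B' k).mp hk b hb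
      rw [h1.mul_pow, hAp b b.2, hVp k k.2, one_mul]
    have hcardT : Nat.card T ≤ Nat.card A := hmax T hTP hTc hTp
    have hT : ∀ t : T, ∃ β : A, β ∈ B' ∧ ∃ κ : V, (t : G) = (β : G) * κ := by
      intro t
      obtain ⟨b, hb, k, _, h⟩ := t.2
      exact ⟨b, hb, k, h⟩
    choose β hβ κ hκ using hT
    let tOf : B' × fixedSub ρ B' → T := fun x =>
      ⟨((x.1 : A) : G) * ((Additive.toMul (x.2 : Additive V) : V) : G),
        ⟨x.1, x.1.2, Additive.toMul (x.2 : Additive V), x.2.2, rfl⟩⟩
    have hmemV : ∀ x : B' × fixedSub ρ B', ((x.1 : A) : G) * ((β (tOf x) : A) : G)⁻¹ ∈ V := by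
      intro x
      have h1 : ((x.1 : A) : G) * ((Additive.toMul (x.2 : Additive V) : V) : G) =
          (β (tOf x) : G) * κ (tOf x) := hκ (tOf x)
      have h2 : ((x.1 : A) : G) * ((β (tOf x) : A) : G)⁻¹ =
          ((β (tOf x) : A) : G)⁻¹ * ((x.1 : A) : G) := by
        have := hAcomm _ (x.1 : A).2 _ (A.inv_mem (β (tOf x)).2)
        exact this
      have h3 : ((β (tOf x) : A) : G)⁻¹ * ((x.1 : A) : G) =
          (κ (tOf x) : G) * ((Additive.toMul (x.2 : Additive V) : V) : G)⁻¹ := by
        rw [eq_mul_inv_iff_mul_eq, mul_assoc, h1]; group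
      rw [h2, h3]
      exact V.mul_mem (κ (tOf x)).2 (V.inv_mem (Additive.toMul (x.2 : Additive V)).2)
    have hfixtop : ∀ x : B' × fixedSub ρ B',
        Additive.ofMul (⟨_, hmemV x⟩ : V) ∈ fixedSub ρ (⊤ : Subgroup A) := by
      intro x
      rw [hfix]
      intro a _
      exact hAcomm _ a.2 _ (A.mul_mem (x.1 : A).2 (A.inv_mem (β (tOf x)).2))
    let Φ : B' × fixedSub ρ B' → T × fixedSub ρ (⊤ : Subgroup A) := fun x =>
      (tOf x, ⟨Additive.ofMul (⟨_, hmemV x⟩ : V), hfixtop x⟩)
    have hΦ : Function.Injective Φ := by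
      intro x y h
      have h1 : tOf x = tOf y := congrArg Prod.fst h
      have h2 : ((x.1 : A) : G) * ((β (tOf x) : A) : G)⁻¹ =
          ((y.1 : A) : G) * ((β (tOf y) : A) : G)⁻¹ :=
        congrArg (fun z : T × fixedSub ρ (⊤ : Subgroup A) =>
          ((Additive.toMul (z.2 : Additive V) : V) : G)) h
      rw [h1] at h2
      have h3 : ((x.1 : A) : G) = ((y.1 : A) : G) := mul_right_cancel h2
      have h4 : ((x.1 : A) : G) * ((Additive.toMul (x.2 : Additive V) : V) : G) =
          ((y.1 : A) : G) * ((Additive.toMul (y.2 : Additive V) : V) : G) :=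
        congrArg (fun t : T => (t : G)) h1
      rw [h3] at h4
      have h5 : ((Additive.toMul (x.2 : Additive V) : V) : G) =
          ((Additive.toMul (y.2 : Additive V) : V) : G) := mul_left_cancel h4
      refine Prod.ext (Subtype.ext (Subtype.ext h3)) (Subtype.ext ?_)
      exact congrArg Additive.ofMul (Subtype.ext h5)
    calc Nat.card B' * Nat.card (fixedSub ρ B')
        = Nat.card (B' × fixedSub ρ B') := (Nat.card_prod _ _).symm
      _ ≤ Nat.card (T × fixedSub ρ (⊤ : Subgroup A)) := Nat.card_le_card_of_injective Φ hΦ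
      _ = Nat.card T * Nat.card (fixedSub ρ (⊤ : Subgroup A)) := Nat.card_prod _ _
      _ ≤ Nat.card A * Nat.card (fixedSub ρ (⊤ : Subgroup A)) := Nat.mul_le_mul_right _ hcardT
      _ = Nat.card (⊤ : Subgroup A) * Nat.card (fixedSub ρ (⊤ : Subgroup A)) := by
          rw [Subgroup.card_top]
  have hnt : ∃ b ∈ (⊤ : Subgroup A), ∃ v, ρ b v ≠ v := by
    by_contra hcon
    push Not at hcon
    apply hAV
    intro a ha
    apply (conjEnd_eq_one_iff V a).mp
    ext w : 1
    exact hcon ⟨a, ha⟩ (Subgroup.mem_top _) w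
  obtain ⟨b, -, ⟨w, hw⟩, hq⟩ := exists_quadratic ρ p hpV hpA _ ⊤ le_rfl hstar hnt
  refine ⟨b, b.2, ?_, ?_⟩
  · intro hc
    apply hw
    have h1 := (conjEnd_eq_one_iff V (b : G)).mpr hc
    show conjEnd V (b : G) w = w
    rw [h1]; rfl
  · intro v hv
    have h1 := hq (Additive.ofMul ⟨v, hv⟩)
    change conjEnd V (b : G) (conjEnd V (b : G) (Additive.ofMul ⟨v, hv⟩) - Additive.ofMul ⟨v, hv⟩) =
      conjEnd V (b : G) (Additive.ofMul ⟨v, hv⟩) - Additive.ofMul ⟨v, hv⟩ at h1
    rw [conjEnd_sub_apply, conjEnd_apply] at h1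
    exact congrArg (fun x : Additive V => ((Additive.toMul x : V) : G)) h1

end GroupForm

end Cfsg.Agent.Lib.Lead
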